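import Groth.Agent.H24NFlat.Main
import Groth.Agent.H24FMod.SysBridge
import Groth.Agent.H24FMod.AlgPred
import Groth.Agent.H24Depth2.Main
import Groth.Agent.H16Derived.QCohD.Perfect
import Groth.Agent.H16Derived.KFlat.PerfConcD
import Groth.Prelude.Def_LefX

/-!
# Algebraization of levelwise locally free systems along a normally flat ideal
-/

set_option autoImplicit false
set_option linter.style.haveILetI false
set_option backward.isDefEq.respectTransparency false

universe u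

open CategoryTheory CategoryTheory.Limits AlgebraicGeometry Opposite TopologicalSpace

attribute [-instance] CategoryTheory.catToReflQuiver

namespace Groth.Agent.H11Leff.NF

theorem isZero_of_isEmpty {Y : Scheme.{u}} [IsEmpty Y] (M : Y.Modules) : IsZero M := by
  rw [IsZero.iff_id_eq_zero]
  refine Scheme.Modules.hom_ext _ _ fun U => ?_
  obtain rfl : U = ⊥ := TopologicalSpace.Opens.ext (Set.eq_empty_of_isEmpty _)
  have h : IsTerminal (M.presheaf.obj (Opposite.op ⊥)) :=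
    TopCat.Sheaf.isTerminalOfEmpty (⟨M.presheaf, M.isSheaf⟩ : TopCat.Sheaf Ab Y.toTopCat)
  exact h.hom_ext _ _

section Free

variable {Z X : Scheme.{u}}

/-- The inverse image of a free module. -/
noncomputable def pullFree (f : Z ⟶ X) (r : ℕ) :
    (Scheme.Modules.pullback f).obj (FlatMod.freeMod X r) ≅ FlatMod.freeMod Z r :=
  haveI : PreservesColimitsOfSize.{0, 0} (Scheme.Modules.pullback f) :=
    (Scheme.Modules.pullbackPushforwardAdjunction f).leftAdjoint_preservesColimits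
  (PreservesCoproduct.iso (Scheme.Modules.pullback f) fun _ : Fin r => Coh.structureModule X) ≪≫
    Sigma.mapIso fun _ => H16Derived.KFlat.Stalk.structurePullbackIso f

/-- The restriction of a free module. -/
noncomputable def restrictFree (W : Z.Opens) (r : ℕ) :
    (FlatMod.freeMod Z r).restrict W.ι ≅ FlatMod.freeMod (W : Scheme.{u}) r :=
  PreservesCoproduct.iso (Scheme.Modules.restrictFunctor W.ι) _ ≪≫
    Sigma.mapIso fun _ => Scheme.Modules.restrictUnitIso W.ι

/-- A free chart of a module on a closed subscheme makes its direct image a free truncation. -/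
theorem exists_chart (c : Z ⟶ X) [IsClosedImmersion c] (M : Z.Modules) (hM : FlatMod.IsFinLocFree M) (x : X) :
    ∃ (V : X.Opens) (r : ℕ), x ∈ V ∧ Nonempty (((Scheme.Modules.pushforward c).obj M).restrict V.ι ≅
      ((Scheme.Modules.pushforward c).obj ((Scheme.Modules.pullback c).obj (FlatMod.freeMod X r))).restrict V.ι) := by
  suffices h : ∃ (V : X.Opens) (r : ℕ), x ∈ V ∧
      Nonempty (M.restrict (c ⁻¹ᵁ V).ι ≅ FlatMod.freeMod ((c ⁻¹ᵁ V : Z.Opens) : Scheme.{u}) r) by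
    obtain ⟨V, r, hxV, ⟨e⟩⟩ := h
    let H := isPullback_morphismRestrict c V
    exact ⟨V, r, hxV, ⟨H10Coh.pushRestrictIso H M ≪≫
      (Scheme.Modules.pushforward (c ∣_ V)).mapIso (e ≪≫ (restrictFree (c ⁻¹ᵁ V) r).symm ≪≫
        (Scheme.Modules.restrictFunctor (c ⁻¹ᵁ V).ι).mapIso (pullFree c r).symm) ≪≫
      (H10Coh.pushRestrictIso H _).symm⟩⟩
  by_cases hx : x ∈ Set.range c
  · obtain ⟨z, rfl⟩ := hx
    obtain ⟨W, r, hzW, ⟨e⟩⟩ := hM z
    obtain ⟨O, hO, hOW⟩ := c.isClosedEmbedding.isInducing.isOpen_iff.1 W.2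
    exact ⟨⟨O, hO⟩, r, hOW.ge hzW,
      H16Derived.QCohD.nonempty_restrict_free (show c ⁻¹ᵁ ⟨O, hO⟩ ≤ W from fun y hy => hOW.le hy) e⟩
  · let V : X.Opens := ⟨(Set.range c)ᶜ, c.isClosedEmbedding.isClosed_range.isOpen_compl⟩
    haveI : IsEmpty ((c ⁻¹ᵁ V : Z.Opens) : Scheme.{u}) := ⟨fun y => y.2 ⟨y.1, rfl⟩⟩
    exact ⟨V, 0, hx, ⟨(isZero_of_isEmpty _).iso (isZero_of_isEmpty _)⟩⟩

end Free

variable (A : Type u) [CommRing A] [IsNoetherianRing A]

attribute [local instance 10000] H10Coh.hasSheafifyAb H10Coh.hasWeakSheafifyAb H10Coh.hasExtAb H10Coh.enoughInjAb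

/-- The ideal sheaf on the open. -/
noncomputable abbrev nidl (J : Ideal A) (U : (Spec (CommRingCat.of A)).Opens) : (U : Scheme.{u}).IdealSheafData :=
  (Spec.map (CommRingCat.ofHom (Ideal.Quotient.mk J))).ker.comap (Scheme.Opens.ι U)

/-- Levelwise locally free systems along a normally flat ideal are completions. -/
theorem exists_algebraization (J I : Ideal A) [IsAdicComplete J A] (hnf : EGA4.IsNormallyFlat J A)
    (hfin : ∀ i, i ≤ 2 → Module.Finite A (LocCoh.H I i (A ⧸ J)))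
    (U : (Spec (CommRingCat.of A)).Opens) (hU : U = LocCoh.puncturedOpen A I)
    (𝔐 : FSch.ModSys (FSch.completionAlong (U : Scheme.{u}) (nidl A J U))) (hM : LefX.LevelwiseFinLocFree 𝔐) :
    ∃ F : (U : Scheme.{u}).Modules, Coh.IsCoh F ∧ Nonempty (FSch.completionMod (nidl A J U) F ≅ 𝔐) := by
  subst hU
  let U := LocCoh.puncturedOpen A I
  haveI : IsNoetherianRing ↑(CommRingCat.of A) := ‹IsNoetherianRing A›
  haveI : IsLocallyNoetherian (U : Scheme.{u}) := isLocallyNoetherian_of_isOpenImmersion U.ι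
  let 𝓘 := nidl A J U
  let c := FSch.completionToX (U : Scheme.{u}) 𝓘
  let hc := FSch.completionToX_comm (U : Scheme.{u}) 𝓘
  haveI hci : ∀ n, IsClosedImmersion (c n) := H24FMod.isClosedImmersion_completionToX (𝓘 := 𝓘)
  haveI : ∀ n, IsLocallyNoetherian ((FSch.completionAlong (U : Scheme.{u}) 𝓘).X n) := fun n =>
    LocallyOfFiniteType.isLocallyNoetherian (c n)
  have hk : ∀ n, (c n).ker = H24GE.idealOf (U : Scheme.{u}) J ^ (n + 1) := fun n =>
    H24FMod.ker_completionToX A J (Scheme.Opens.ι U) (𝓘 := 𝓘) rfl rfl n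
  have hI : J.FG := IsNoetherian.noetherian J
  have hcoh : 𝔐.IsCoh := fun n => H16Derived.KFlat.Stalk.isCoh_of_isFinLocFree (hM n)
  let G := H24FMod.sysOf c hc 𝔐
  have hG : Formal.IsCohFormal J G := H24FMod.isCohFormal_sysOf c hc _ hk
    (H24FSch.isFormal_completionAlong (U : Scheme.{u}) 𝓘) hI 𝔐 hcoh
  have hfree : ∀ n, Formal2.IsFinLocFreeMod J (n + 1) (G.obj (op n)) := fun n x => by
    obtain ⟨V, r, hxV, ⟨e⟩⟩ := exists_chart (c n) (𝔐.F n) (hM n) x
    obtain ⟨e₁, -⟩ := H24FMod.exists_complIso c hc J hk _ (fun _ => rfl) hI (FlatMod.freeMod (U : Scheme.{u}) r)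
      (H16Derived.KFlat.Stalk.isCoh_of_isFinLocFree fun x => ⟨⊤, r, trivial, ⟨restrictFree ⊤ r⟩⟩)
    exact ⟨V, r, hxV, ⟨e ≪≫ (Scheme.Modules.restrictFunctor V.ι).mapIso (e₁.app (op n)).symm⟩⟩
  obtain ⟨d, f, hf⟩ := Submodule.fg_iff_exists_fin_generating_family.1 (IsNoetherian.noetherian J)
  have hJ : H24Algz5.Jf f = J := hf
  have hsplit : H24Algz5.IsSplit hG f hJ.le := H24NFlat.isSplit_of_matrix hG f hJ.le hJ fun n => by
    obtain ⟨r, cc, e, hcc, h2, h1⟩ := H24NFlat.exists_matrix J hnf n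
    exact ⟨r, cc, e, hcc, h2, fun y v hv s =>
      H24NFlat.relation_locFree A I J cc (e s) (fun w hw => h1 w hw s) (G.obj (op n)) (hfree n) y v hv⟩
  let q : (A ⧸ J) ≃ₗ[A] (A ⧸ (J ^ 1 • (⊤ : Submodule A A))) := Submodule.quotEquivOfEq _ _ (by simp)
  have hH := fun i hi => H24NFlat.finite_H_congr A I q i (hfin i hi)
  have hHH := H24NFlat.finite_HH_locFree A I J (hH 1 (by omega)) (hH 2 le_rfl) _ (hG.1 0) (hfree 0)
  obtain ⟨F, hF, ⟨e⟩⟩ := H24NFlat.exists_completion_iso A I J G hG hsplit (hHH 0 (Nat.zero_le 1)) (hHH 1 le_rfl)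
  obtain ⟨e₁, -⟩ := H24FMod.exists_complIso c hc J hk _ (fun _ => rfl) hI F hF
  obtain ⟨e₂⟩ := H24FMod.nonempty_iso_of_sys c hc (e₁.symm ≪≫ e)
  exact ⟨F, hF, ⟨eqToIso (H24Depth2.completionMod_eq 𝓘 F) ≪≫ e₂⟩⟩

end Groth.Agent.H11Leff.NF
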