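import Groth.Agent.H24FMod.SysBridge
import Groth.Agent.H17.PullSectLocal
import Groth.Agent.H8Props.FinLocFree.Sheaf
import Groth.Agent.H7Flat.LocalCriterion
import Groth.Agent.H10Coh.FinType2
import Groth.Agent.H16Derived.KFlat.PerfConcD
import Groth.Agent.H16Derived.KFlat.PerfNoeth
import Groth.Agent.H7Lim.ModLocFree
import Groth.Prelude.Def_FSch3
import Groth.Prelude.Def_LefX

/-!
# A coherent module with locally free completion is locally free near the closed subscheme
-/

set_option autoImplicit false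
set_option linter.style.haveILetI false
set_option backward.isDefEq.respectTransparency false

universe u

open CategoryTheory CategoryTheory.Limits AlgebraicGeometry Opposite TopologicalSpace
open scoped TensorProduct

attribute [-instance] CategoryTheory.catToReflQuiver

namespace Groth.Agent.H11Leff

/-- A free module is free on the whole space. -/
noncomputable def topFree (Y : Scheme.{u}) (r : ℕ) :
    (FlatMod.freeMod Y r).restrict (⊤ : Y.Opens).ι ≅ FlatMod.freeMod (↑(⊤ : Y.Opens)) r :=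
  PreservesCoproduct.iso (Scheme.Modules.restrictFunctor (⊤ : Y.Opens).ι) _ ≪≫
    Sigma.mapIso fun _ => Scheme.Modules.restrictUnitIso (⊤ : Y.Opens).ι

variable {X : Scheme.{u}} [IsLocallyNoetherian X] (𝓘 : X.IdealSheafData) (F : X.Modules) (hF : Coh.IsCoh F)

/-- The truncations of the sections are flat. -/
theorem flat_quot_sections (hF : Coh.IsCoh F) {V : X.Opens} (hV : IsAffineOpen V) (n : ℕ)
    (hn : FlatMod.IsFinLocFree ((Scheme.Modules.pullback (FSch.completionToX X 𝓘 n)).obj F)) :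
    Module.Flat (Γ(X, V) ⧸ (𝓘.ideal ⟨V, hV⟩) ^ (n + 1))
      ((Γ(X, V) ⧸ (𝓘.ideal ⟨V, hV⟩) ^ (n + 1)) ⊗[Γ(X, V)] Γ(F, V)) := by
  let c := FSch.completionToX X 𝓘 n
  haveI : IsClosedImmersion c := inferInstanceAs (IsClosedImmersion (𝓘 ^ (n + 1)).subschemeι)
  let W := c ⁻¹ᵁ V
  have hW : IsAffineOpen W := hV.preimage c
  obtain ⟨hs, hk⟩ := H17.PullSect.isQuotOn_of_isAffineOpen c F hF.1 hV
  let G := (Scheme.Modules.pullback c).obj F
  let S := Γ((FSch.completionAlong X 𝓘).X n, W)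
  let N := Γ(G, W)
  haveI : Module.Projective S N := (H8Props.FinLocFree.finite_projective_sections G hn hW).2
  let φ : Γ(X, V) →+* S := (c.app V).hom
  have hφs : Function.Surjective φ := c.app_surjective V hV
  have hφk : RingHom.ker φ = 𝓘.ideal ⟨V, hV⟩ ^ (n + 1) := by
    rw [show RingHom.ker φ = (𝓘 ^ (n + 1)).ideal ⟨V, hV⟩ from (𝓘 ^ (n + 1)).ker_subschemeι_app ⟨V, hV⟩,
      Scheme.IdealSheafData.ideal_pow]
    rfl
  letI : Module Γ(X, V) N := Module.compHom N φ
  let ψ : Γ(F, V) →ₗ[Γ(X, V)] N :=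
    { toFun := fun m => OmegaSh.pullSect c F V m
      map_add' := fun a b => map_add _ a b
      map_smul' := fun r m => OmegaSh.pullSect_smul c F V r m }
  let I := 𝓘.ideal ⟨V, hV⟩ ^ (n + 1)
  have hψk : LinearMap.ker ψ = I • (⊤ : Submodule Γ(X, V) Γ(F, V)) := by
    refine le_antisymm (fun m hm => ?_) ?_
    · have := hk m hm
      rwa [show RingHom.ker (c.app V).hom = I from hφk] at this
    · refine Submodule.smul_le.2 fun r hr m _ => ?_
      show ψ (r • m) = 0
      rw [map_smul]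
      show φ r • ψ m = 0
      rw [show φ r = 0 from RingHom.mem_ker.1 (hφk.symm ▸ hr), zero_smul]
  let ε : ((Γ(X, V) ⧸ I) ⊗[Γ(X, V)] Γ(F, V)) ≃ₗ[Γ(X, V)] N :=
    (TensorProduct.quotTensorEquivQuotSMul Γ(F, V) I).trans
      ((Submodule.quotEquivOfEq _ _ hψk.symm).trans (ψ.quotKerEquivOfSurjective hs))
  let e : (Γ(X, V) ⧸ I) ≃+* S := (Ideal.quotEquivOfEq hφk.symm).trans (RingHom.quotientKerEquivOfSurjective hφs)
  letI : RingHomInvPair (e.symm : S →+* Γ(X, V) ⧸ I) (e : Γ(X, V) ⧸ I →+* S) := RingHomInvPair.of_ringEquiv_symm e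
  letI : RingHomInvPair (e : Γ(X, V) ⧸ I →+* S) (e.symm : S →+* Γ(X, V) ⧸ I) := RingHomInvPair.of_ringEquiv e
  let δ : N ≃ₛₗ[(e.symm : S →+* Γ(X, V) ⧸ I)] ((Γ(X, V) ⧸ I) ⊗[Γ(X, V)] Γ(F, V)) :=
    { ε.symm.toAddEquiv with
      map_smul' := fun s x => by
        obtain ⟨r, rfl⟩ := hφs s
        show ε.symm (φ r • x) = e.symm (φ r) • ε.symm x
        have he : e.symm (φ r) = Ideal.Quotient.mk I r := by
          rw [RingEquiv.symm_apply_eq]; rfl
        rw [he, show (φ r • x : N) = r • x from rfl, map_smul]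
        exact (algebraMap_smul (Γ(X, V) ⧸ I) r (ε.symm x)).symm }
  haveI := Module.Projective.of_equiv δ
  infer_instance

variable (hfree : ∀ n, FlatMod.IsFinLocFree ((Scheme.Modules.pullback (FSch.completionToX X 𝓘 n)).obj F))

include hF hfree in
/-- Near the support the module is free. -/
theorem exists_free_nhd {x : X} (hx : x ∈ (𝓘.support : Set X)) :
    ∃ W : X.Opens, x ∈ W ∧ FlatMod.IsFinLocFree (F.restrict W.ι) := by
  obtain ⟨_, ⟨V, hV : IsAffineOpen V, rfl⟩, hxV, -⟩ :=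
    X.isBasis_affineOpens.exists_subset_of_mem_open (Set.mem_univ x) isOpen_univ
  haveI : IsNoetherianRing Γ(X, V) := IsLocallyNoetherian.component_noetherian ⟨V, hV⟩
  haveI : F.IsQuasicoherent := hF.1
  haveI : Module.Finite Γ(X, V) Γ(F, V) := H10Coh.finite_sections F hF.2 hV
  haveI : Module.FinitePresentation Γ(X, V) Γ(F, V) := Module.finitePresentation_of_finite _ _
  let I := 𝓘.ideal ⟨V, hV⟩
  let p := (hV.primeIdealOf ⟨x, hxV⟩).asIdeal
  have hIp : I ≤ p := fun a ha => by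
    rw [H29Blow.mem_primeIdealOf_iff hV ⟨x, hxV⟩ a]
    intro hu
    have := (𝓘.coe_support_inter ⟨V, hV⟩).le ⟨hx, hxV⟩
    exact ((X.mem_zeroLocus_iff (U := V) (I : Set Γ(X, V)) x).1 this.1) a ha ((X.mem_basicOpen a x hxV).2 hu)
  have hfl : ∀ m : ℕ, Module.Flat (Γ(X, V) ⧸ I ^ m) ((Γ(X, V) ⧸ I ^ m) ⊗[Γ(X, V)] Γ(F, V)) := by
    rintro (_ | m)
    · haveI : Subsingleton (Γ(X, V) ⧸ I ^ 0) := Ideal.Quotient.subsingleton_iff.2 (by rw [pow_zero, Ideal.one_eq_top])
      haveI : Subsingleton ((Γ(X, V) ⧸ I ^ 0) ⊗[Γ(X, V)] Γ(F, V)) := Module.subsingleton (Γ(X, V) ⧸ I ^ 0) _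
      infer_instance
    · exact flat_quot_sections 𝓘 F hF hV m (hfree m)
  haveI : Module.Flat Γ(X, V) (LocalizedModule p.primeCompl Γ(F, V)) :=
    H7Flat.flat_localizedModule_of_flat_quotients (R := Γ(X, V)) (S := Γ(X, V)) (M := Γ(F, V)) I hfl p
      (by rwa [Algebra.algebraMap_self, Ideal.map_id])
  haveI : Module.Flat (Localization.AtPrime p) (LocalizedModule p.primeCompl Γ(F, V)) :=
    (Module.flat_iff_of_isLocalization (Localization.AtPrime p) p.primeCompl _).2 ‹_›
  haveI : Module.Finite (Localization.AtPrime p) (LocalizedModule p.primeCompl Γ(F, V)) :=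
    Module.Finite.of_isLocalizedModule p.primeCompl (LocalizedModule.mkLinearMap p.primeCompl Γ(F, V))
  haveI : Module.Free (Localization.AtPrime p) (LocalizedModule p.primeCompl Γ(F, V)) :=
    Module.free_of_flat_of_isLocalRing
  obtain ⟨f, r, m, hf, hs, hi⟩ := H8Props.FinLocFree.exists_basis_upTo (M := Γ(F, V)) p
  haveI := H8Props.FinLocFree.isIso_basicHom F hF.1 hV f m hs hi
  refine ⟨X.basicOpen f, ?_, H7Lim.ModLocFree.isFinLocFree_of_iso (asIso (H29Fitt.basicHom F f m))
    (fun _ => ⟨⊤, r, trivial, ⟨topFree _ r⟩⟩)⟩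
  by_contra hn
  exact hf ((H29Blow.mem_primeIdealOf_iff hV ⟨x, hxV⟩ f).2 fun hu => hn ((X.mem_basicOpen f x hxV).2 hu))

omit [IsLocallyNoetherian X] in
/-- The unit of an open immersion becomes invertible after restriction. -/
theorem isIso_pullback_unit (U : X.Opens) (F : X.Modules) :
    IsIso ((Scheme.Modules.pullback U.ι).map ((Scheme.Modules.pullbackPushforwardAdjunction U.ι).unit.app F)) := by
  have h := (Scheme.Modules.pullbackPushforwardAdjunction U.ι).left_triangle_components F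
  haveI : IsIso ((Scheme.Modules.pullbackPushforwardAdjunction U.ι).counit.app ((Scheme.Modules.pullback U.ι).obj F)) :=
    inferInstance
  exact IsIso.of_isIso_fac_right h

omit [IsLocallyNoetherian X] in
/-- A map inverted by an open is inverted by anything factoring through the open. -/
theorem isIso_pullback_map_of_comp {Z : Scheme.{u}} (U : X.Opens) {F G : X.Modules} (η : F ⟶ G)
    [IsIso ((Scheme.Modules.pullback U.ι).map η)] (c : Z ⟶ X) (l : Z ⟶ U) (hl : l ≫ U.ι = c) :
    IsIso ((Scheme.Modules.pullback c).map η) :=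
  (NatIso.isIso_map_iff (Scheme.Modules.pullbackComp l U.ι ≪≫ Scheme.Modules.pullbackCongr hl) η).1
    (Functor.map_isIso (Scheme.Modules.pullback l) ((Scheme.Modules.pullback U.ι).map η))

omit [IsLocallyNoetherian X] in
/-- A levelwise invertible map of systems is invertible. -/
theorem nonempty_iso_of_levelwise {𝔛 : FSch.Sys.{u}} {M N : FSch.ModSys 𝔛} (a : M ⟶ N) (h : ∀ n, IsIso (a.app n)) :
    Nonempty (M ≅ N) := by
  let b : N ⟶ M :=
    ⟨fun n => inv (a.app n), fun n => by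
      rw [Functor.map_inv, IsIso.inv_comp_eq, ← Category.assoc, IsIso.eq_comp_inv]
      exact (a.comm n).symm⟩
  exact ⟨⟨a, b, FSch.ModSys.Hom.ext (funext fun n => IsIso.hom_inv_id _),
    FSch.ModSys.Hom.ext (funext fun n => IsIso.inv_hom_id _)⟩⟩

omit [IsLocallyNoetherian X] in
/-- A map of modules gives a map of completions. -/
theorem exists_complMap {𝔛 : FSch.Sys.{u}} (c : ∀ n, 𝔛.X n ⟶ X) (hc : ∀ n, 𝔛.ι n ≫ c (n + 1) = c n)
    {F G : X.Modules} (η : F ⟶ G) :
    ∃ a : (FSch.ModSys.mk (fun n => (Scheme.Modules.pullback (c n)).obj F) (fun n =>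
      (Scheme.Modules.pullbackComp (𝔛.ι n) (c (n + 1))).app F ≪≫
        (Scheme.Modules.pullbackCongr (hc n)).app F) : FSch.ModSys 𝔛) ⟶
      (FSch.ModSys.mk (fun n => (Scheme.Modules.pullback (c n)).obj G) (fun n =>
      (Scheme.Modules.pullbackComp (𝔛.ι n) (c (n + 1))).app G ≪≫
        (Scheme.Modules.pullbackCongr (hc n)).app G) : FSch.ModSys 𝔛),
      ∀ n, a.app n = (Scheme.Modules.pullback (c n)).map η :=
  ⟨⟨fun n => (Scheme.Modules.pullback (c n)).map η, fun n =>
    (Scheme.Modules.pullbackComp (𝔛.ι n) (c (n + 1)) ≪≫ Scheme.Modules.pullbackCongr (hc n)).hom.naturality η⟩,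
    fun _ => rfl⟩

omit [IsLocallyNoetherian X] in
/-- Completions only see a neighbourhood. -/
theorem nonempty_completion_iso (U : X.Opens) (hU : (𝓘.support : Set X) ⊆ (U : Set X)) :
    Nonempty (FSch.completionMod 𝓘 F ≅
      FSch.completionMod 𝓘 ((Scheme.Modules.pushforward U.ι).obj ((Scheme.Modules.pullback U.ι).obj F))) := by
  obtain ⟨a, ha⟩ := exists_complMap (FSch.completionToX X 𝓘) (FSch.completionToX_comm X 𝓘)
    ((Scheme.Modules.pullbackPushforwardAdjunction U.ι).unit.app F)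
  unfold FSch.completionMod
  refine nonempty_iso_of_levelwise a fun n => ?_
  rw [ha]
  haveI := isIso_pullback_unit U F
  have hr : Set.range (FSch.completionToX X 𝓘 n) ⊆ Set.range U.ι := by
    show Set.range (𝓘 ^ (n + 1)).subschemeι ⊆ Set.range U.ι
    rw [Scheme.IdealSheafData.range_subschemeι, Scheme.Opens.range_ι, Scheme.IdealSheafData.support_pow_succ]
    exact hU
  exact isIso_pullback_map_of_comp U ((Scheme.Modules.pullbackPushforwardAdjunction U.ι).unit.app F)
    (FSch.completionToX X 𝓘 n) (IsOpenImmersion.lift U.ι (FSch.completionToX X 𝓘 n) hr) (IsOpenImmersion.lift_fac _ _ _)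

include hF in
/-- An algebraization of a locally free system is locally free near the closed subscheme. -/
theorem exists_locFree (𝔐 : FSch.ModSys (FSch.completionAlong X 𝓘)) (hM : LefX.LevelwiseFinLocFree 𝔐)
    (e : FSch.completionMod 𝓘 F ≅ 𝔐) :
    ∃ (U : X.Opens) (E : (U : Scheme.{u}).Modules), (𝓘.support : Set X) ⊆ (U : Set X) ∧ FlatMod.IsFinLocFree E ∧
      Nonempty (FSch.completionMod 𝓘 ((Scheme.Modules.pushforward U.ι).obj E) ≅ 𝔐) := by
  have hfree : ∀ n, FlatMod.IsFinLocFree ((Scheme.Modules.pullback (FSch.completionToX X 𝓘 n)).obj F) := fun n =>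
    H7Lim.ModLocFree.isFinLocFree_of_iso ⟨e.inv.app n, e.hom.app n,
      congrArg (fun k : 𝔐 ⟶ 𝔐 => k.app n) e.inv_hom_id,
      congrArg (fun k : FSch.completionMod 𝓘 F ⟶ FSch.completionMod 𝓘 F => k.app n) e.hom_inv_id⟩ (hM n)
  choose W hxW hW using fun x : (𝓘.support : Set X) => exists_free_nhd 𝓘 F hF hfree x.2
  let U : X.Opens := ⨆ x, W x
  have hU : (𝓘.support : Set X) ⊆ (U : Set X) := fun x hx => Opens.mem_iSup.2 ⟨⟨x, hx⟩, hxW ⟨x, hx⟩⟩
  have hfree' : FlatMod.IsFinLocFree (F.restrict U.ι) := H16Derived.KFlat.Stalk.isFinLocFree_restrict_of_forall fun y hy => by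
    obtain ⟨x, hxy⟩ := Opens.mem_iSup.1 hy
    exact ⟨W x, hxy, le_iSup W x, hW x⟩
  refine ⟨U, (Scheme.Modules.pullback U.ι).obj F, hU,
    H7Lim.ModLocFree.isFinLocFree_of_iso ((Scheme.Modules.restrictFunctorIsoPullback U.ι).app F) hfree', ?_⟩
  obtain ⟨e₁⟩ := nonempty_completion_iso 𝓘 F U hU
  exact ⟨e₁.symm ≪≫ e⟩

end Groth.Agent.H11Leff
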