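import Groth.Agent.H11LefFEt.Dual
import Groth.Agent.H17.PullSectLocal
import Groth.Agent.H24FMod.AlgPred
import Groth.Agent.H24FMod.SysBridge
import Groth.Agent.H24Depth2.Main
import Groth.Prelude.Def_FSch3

/-!
# Morphisms of finite locally free modules and of their completions
-/

set_option autoImplicit false
set_option linter.style.haveILetI false
set_option backward.isDefEq.respectTransparency false

universe u

open CategoryTheory CategoryTheory.Limits AlgebraicGeometry Opposite TopologicalSpace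
open Groth.Agent Groth.Agent.H29Ref Groth.Agent.H10Coh.SheafHom

attribute [-instance] CategoryTheory.catToReflQuiver

namespace Groth.Agent.H11Leff.HomBij

open H11LefFEt

variable {X : Scheme.{u}} (J : X.IdealSheafData)

/-- The ideal of a level. -/
noncomputable abbrev lI (n : ℕ) (V : X.Opens) : Ideal Γ(X, V) := RingHom.ker (redMap J n V)

/-- Congruence modulo the ideal of a level. -/
def Cong (H : X.Modules) (n : ℕ) (V : X.Opens) (a b : Γ(H, V)) : Prop :=
  a - b ∈ lI J n V • (⊤ : Submodule Γ(X, V) Γ(H, V))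

theorem cong_iff {H : X.Modules} (hHq : Coh.IsQCoh H) {V : X.Opens} (hV : FreeOn H V) (n : ℕ) (a b : Γ(H, V)) :
    Cong J H n V a b ↔ ∀ ψ : Γ(RefHull.dual H, V), redMap J n V (toLin ψ a) = redMap J n V (toLin ψ b) := by
  obtain ⟨hVa, hfree, hfin⟩ := hV
  unfold Cong
  refine ⟨fun h ψ => ?_, fun h => ?_⟩
  · refine sub_eq_zero.1 ((map_sub (redMap J n V) _ _).symm.trans ?_)
    refine (congrArg (redMap J n V) ((toLin ψ).map_sub a b)).symm.trans ?_
    refine Submodule.smul_induction_on h (fun r hr m _ => ?_) fun x y hx hy => ?_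
    · refine (congrArg (redMap J n V) ((toLin ψ).map_smul r m)).trans ?_
      exact (map_mul (redMap J n V) r _).trans (mul_eq_zero_of_left hr _)
    · exact (congrArg (redMap J n V) ((toLin ψ).map_add x y)).trans
        ((map_add (redMap J n V) _ _).trans (by rw [hx, hy, add_zero]))
  · let bs := Module.Free.chooseBasis Γ(X, V) Γ(H, V)
    rw [← bs.sum_repr (a - b)]
    refine Submodule.sum_mem _ fun i _ => Submodule.smul_mem_smul ?_ Submodule.mem_top
    obtain ⟨θ, hθ⟩ := (bijective_toLinₗ H (Coh.structureModule X) hHq hVa).2 (bs.coord i)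
    show redMap J n V (bs.repr (a - b) i) = 0
    rw [show bs.repr (a - b) i = bs.coord i (a - b) from rfl, ← show toLin θ = bs.coord i from hθ]
    exact (congrArg (redMap J n V) ((toLin θ).map_sub a b)).trans ((map_sub (redMap J n V) _ _).trans (sub_eq_zero.2 (h θ)))

variable [IsLocallyNoetherian X]

/-- Compatible local sections modulo the powers of the ideal come from a unique global section. -/
theorem exists_section (H : X.Modules) (hH : FlatMod.IsFinLocFree H)
    (hD : Lef.HomToFormalBijective J (RefHull.dual H)) (B : X.Opens → Prop) (hB : ∀ V, B V → FreeOn H V)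
    (hbase : ∀ (W : X.Opens) (x : X), x ∈ W → ∃ U, B U ∧ x ∈ U ∧ U ≤ W) :
    (∀ σ : Γ(H, ⊤), (∀ n V, B V → Cong J H n V (H.presheaf.map (homOfLE (le_top : V ≤ ⊤)).op σ) 0) → σ = 0) ∧
    ∀ m : ∀ (_ : ℕ) (V : X.Opens), B V → Γ(H, V),
      (∀ n U U' (hU : B U) (hU' : B U') (le : U' ≤ U),
        Cong J H n U' (m n U' hU') (H.presheaf.map (homOfLE le).op (m n U hU))) →
      (∀ n V (hV : B V), Cong J H n V (m (n + 1) V hV) (m n V hV)) →
      ∃ σ : Γ(H, ⊤), ∀ n V (hV : B V), Cong J H n V (H.presheaf.map (homOfLE (le_top : V ≤ ⊤)).op σ) (m n V hV) := by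
  let D := RefHull.dual H
  have hHq : Coh.IsQCoh H := H8Props.FinLocFree.isQCoh_of_isFinLocFree H hH
  haveI : IsIso (RefHull.bidualMap H) := isReflexive_of_finLocFree hH
  let toS := fun (n : ℕ) => ClSub.toSubscheme (J ^ (n + 1))
  have hval : ∀ (φ : D ⟶ Coh.structureModule X) (u : Γ(H, ⊤)),
      RefHull.ofHom φ ⊤ = (RefHull.bidualMap H).app ⊤ u → ∀ (V : X.Opens) (ψ : Γ(D, V)),
        φ.app V ψ = toLin ψ (H.presheaf.map (homOfLE (le_top : V ≤ ⊤)).op u) := fun φ u hu V ψ => by
    rw [← toLin_ofHom φ V ψ, ← toLin_bidual H _ ψ]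
    refine congrArg (fun f => toLin f ψ) ?_
    refine Eq.trans ?_ (congr($((RefHull.bidualMap H).mapPresheaf.naturality (homOfLE (le_top : V ≤ ⊤)).op) u)).symm
    exact congrArg ((RefHull.ddual H).presheaf.map (homOfLE (le_top : V ≤ ⊤)).op) hu
  refine ⟨fun σ hσ => ?_, fun m hres hsucc => ?_⟩
  · obtain ⟨φ, hφ⟩ := ofHom_surjective ((RefHull.bidualMap H).app ⊤ σ)
    obtain ⟨φ₀, hφ₀⟩ := ofHom_surjective ((RefHull.bidualMap H).app ⊤ (0 : Γ(H, ⊤)))
    refine (H17.PullSect.bijective_app (asIso (RefHull.bidualMap H)).hom ⊤).1 ?_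
    refine hφ.symm.trans (Eq.trans (congrArg (fun f => RefHull.ofHom f ⊤) (hD.1 φ φ₀ fun n =>
      hom_ext_basis B hbase fun V hV ψ => ?_)) hφ₀)
    show redMap J n V (φ.app V ψ) = redMap J n V (φ₀.app V ψ)
    rw [hval φ σ hφ, hval φ₀ 0 hφ₀, map_zero (H.presheaf.map (homOfLE (le_top : V ≤ ⊤)).op).hom]
    exact (cong_iff J hHq (hB V hV) n _ _).1 (hσ n V hV) ψ
  · have hy : ∀ n, ∃ y : D ⟶ ClSub.quotMod (J ^ (n + 1)), ∀ V (hV : B V) ψ,
        y.app V ψ = (toS n).app V (toLin ψ (m n V hV)) := by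
      intro n
      refine H17.PrinOmega.exists_hom_of_basis D _ B hbase (fun V hV =>
        { toFun := fun ψ => (toS n).app V (toLin ψ (m n V hV))
          map_add' := fun a b => by
            rw [show toLin (a + b) = toLin a + toLin b from map_add (toLinₗ H _ V) a b,
              LinearMap.add_apply, map_add]
          map_smul' := fun r a => by
            rw [show toLin (r • a) = r • toLin a from map_smul (toLinₗ H _ V) r a, LinearMap.smul_apply]
            exact (toS n).app_smul r _ }) fun U U' hU hU' le ψ => ?_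
      have h1 : (toS n).app U' (toLin (D.presheaf.map (homOfLE le).op ψ) (m n U' hU')) =
          (toS n).app U' (toLin (D.presheaf.map (homOfLE le).op ψ) (H.presheaf.map (homOfLE le).op (m n U hU))) :=
        (cong_iff J hHq (hB U' hU') n _ _).1 (hres n U U' hU hU' le) _
      refine h1.trans ?_
      rw [toLin_res]
      exact congr($((toS n).mapPresheaf.naturality (homOfLE le).op) (toLin ψ (m n U hU)))
    choose y hy using hy
    obtain ⟨φ, hφ⟩ := hD.2 y fun n => hom_ext_basis B hbase fun V hV ψ => by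
      refine Eq.trans (congrArg ((Lef.quotMap (Lef.pow_succ_le J n)).app V) (hy (n + 1) V hV ψ)) ?_
      refine Eq.trans (quotMap_red (Lef.pow_succ_le J n) V _) ?_
      refine Eq.trans ?_ (hy n V hV ψ).symm
      exact (cong_iff J hHq (hB V hV) n _ _).1 (hsucc n V hV) ψ
    obtain ⟨σ, hσ⟩ := (H17.PullSect.bijective_app (asIso (RefHull.bidualMap H)).hom ⊤).2 (RefHull.ofHom φ ⊤)
    refine ⟨σ, fun n V hV => (cong_iff J hHq (hB V hV) n _ _).2 fun ψ => ?_⟩
    rw [← hval φ σ hσ.symm V ψ]
    exact (hom_app_eq (hφ n) V ψ).trans (hy n V hV ψ)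

section Trans

omit [IsLocallyNoetherian X] in
/-- A morphism of systems of inverse images on pulled back sections. -/
theorem pullSect_succ {𝔛 : FSch.Sys.{u}} (c : ∀ n, 𝔛.X n ⟶ X) (hc : ∀ n, 𝔛.ι n ≫ c (n + 1) = c n)
    (T : ∀ n, Scheme.Modules.pullback (c (n + 1)) ⋙ Scheme.Modules.pullback (𝔛.ι n) ≅ Scheme.Modules.pullback (c n))
    (hT : ∀ n, T n = Scheme.Modules.pullbackComp (𝔛.ι n) (c (n + 1)) ≪≫ Scheme.Modules.pullbackCongr (hc n))
    {F G : X.Modules} (a : H24FMod.pbSys c T F ⟶ H24FMod.pbSys c T G) (n : ℕ) (V : X.Opens) (x : Γ(F, V))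
    (g : Γ(G, V))
    (h : OmegaSh.pullSect (c (n + 1)) G V g = (a.app (n + 1)).app _ (OmegaSh.pullSect (c (n + 1)) F V x)) :
    OmegaSh.pullSect (c n) G V g = (a.app n).app _ (OmegaSh.pullSect (c n) F V x) := by
  let adj := Scheme.Modules.pullbackPushforwardAdjunction (𝔛.ι n)
  have hnat : (H24FMod.pbSys c T F).toPush n ≫ (Scheme.Modules.pushforward (𝔛.ι n)).map (a.app n) =
      a.app (n + 1) ≫ (H24FMod.pbSys c T G).toPush n := by
    refine (adj.homEquiv_naturality_right ((H24FMod.pbSys c T F).e n).hom (a.app n)).symm.trans ?_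
    rw [← a.comm n]
    exact adj.homEquiv_naturality_left (a.app (n + 1)) ((H24FMod.pbSys c T G).e n).hom
  have hop : c n ⁻¹ᵁ V = 𝔛.ι n ⁻¹ᵁ (c (n + 1) ⁻¹ᵁ V) := by rw [← Scheme.Hom.comp_preimage, hc]
  have hinj : Function.Injective (((H24FMod.pbSys c T G).F n).presheaf.map (homOfLE hop.ge).op) := by
    refine Function.LeftInverse.injective (g := ((H24FMod.pbSys c T G).F n).presheaf.map (homOfLE hop.le).op) fun z => ?_
    rw [← ConcreteCategory.comp_apply, ← Functor.map_comp]
    exact congr($(((H24FMod.pbSys c T G).F n).presheaf.map_id (op (c n ⁻¹ᵁ V))) z)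
  refine hinj ?_
  refine (H24FMod.toPush_pullSect c hc T hT G V n g).symm.trans ?_
  refine (congrArg (((H24FMod.pbSys c T G).toPush n).app (c (n + 1) ⁻¹ᵁ V)) h).trans ?_
  refine (H24FSch.comp_eq_apply hnat.symm _ _).trans ?_
  refine (congrArg ((a.app n).app _) (H24FMod.toPush_pullSect c hc T hT F V n x)).trans ?_
  exact H11Tilde.app_map_apply _ _ _

/-- The standard comparison of iterated inverse images to the levels. -/
noncomputable abbrev stdT (n : ℕ) :
    Scheme.Modules.pullback (FSch.completionToX X J (n + 1)) ⋙ Scheme.Modules.pullback ((FSch.completionAlong X J).ι n) ≅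
      Scheme.Modules.pullback (FSch.completionToX X J n) :=
  Scheme.Modules.pullbackComp ((FSch.completionAlong X J).ι n) (FSch.completionToX X J (n + 1)) ≪≫
    Scheme.Modules.pullbackCongr (FSch.completionToX_comm X J n)

/-- The system of inverse images on the completion. -/
noncomputable abbrev stdSys (F : X.Modules) : FSch.ModSys (FSch.completionAlong X J) :=
  H24FMod.pbSys (FSch.completionToX X J) (stdT J) F

omit [IsLocallyNoetherian X] in
theorem eqToHom_app {𝔛 : FSch.Sys.{u}} {M N : FSch.ModSys 𝔛} (h : M = N) (n : ℕ) :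
    (eqToHom h : M ⟶ N).app n = eqToHom (congrArg (fun P : FSch.ModSys 𝔛 => P.F n) h) := by
  subst h
  rfl

end Trans

section Hom

variable (F G : X.Modules) (hF : FlatMod.IsFinLocFree F) (hG : FlatMod.IsFinLocFree G)

omit [IsLocallyNoetherian X] in
theorem exists_base (H : X.Modules) (hF : FlatMod.IsFinLocFree F) (hG : FlatMod.IsFinLocFree G)
    (hH : FlatMod.IsFinLocFree H) (W : X.Opens) (x : X) (hx : x ∈ W) :
    ∃ U, (FreeOn F U ∧ FreeOn G U ∧ FreeOn H U) ∧ x ∈ U ∧ U ≤ W := by
  obtain ⟨V₁, r₁, h₁, ⟨e₁⟩⟩ := hF x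
  obtain ⟨V₂, r₂, h₂, ⟨e₂⟩⟩ := hG x
  obtain ⟨V₃, r₃, h₃, ⟨e₃⟩⟩ := hH x
  obtain ⟨U, hU, hxU, hle⟩ :=
    exists_isAffineOpen_mem_and_subset (U := W ⊓ (V₁ ⊓ (V₂ ⊓ V₃))) (x := x) ⟨hx, h₁, h₂, h₃⟩
  exact ⟨U, ⟨⟨hU, H8Props.FinLocFree.free_finite_of_chart F e₁ fun y hy => (hle hy).2.1⟩,
    ⟨hU, H8Props.FinLocFree.free_finite_of_chart G e₂ fun y hy => (hle hy).2.2.1⟩,
    ⟨hU, H8Props.FinLocFree.free_finite_of_chart H e₃ fun y hy => (hle hy).2.2.2⟩⟩, hxU, fun y hy => (hle hy).1⟩

section Lifts

variable (n : ℕ) (V : X.Opens)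

/-- The transpose of a morphism of completions. -/
noncomputable abbrev transp (a : stdSys J F ⟶ stdSys J G) (n : ℕ) :
    F ⟶ (Scheme.Modules.pushforward (FSch.completionToX X J n)).obj
      ((Scheme.Modules.pullback (FSch.completionToX X J n)).obj G) :=
  (Scheme.Modules.pullbackPushforwardAdjunction (FSch.completionToX X J n)).homEquiv F _ (a.app n)

omit [IsLocallyNoetherian X] in
theorem transp_app (a : stdSys J F ⟶ stdSys J G) (x : Γ(F, V)) :
    (transp J F G a n).app V x =
      (a.app n).app (FSch.completionToX X J n ⁻¹ᵁ V) (OmegaSh.pullSect (FSch.completionToX X J n) F V x) := by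
  rw [show transp J F G a n = _ from
    (Scheme.Modules.pullbackPushforwardAdjunction (FSch.completionToX X J n)).homEquiv_unit _ _ _]
  rfl

/-- A local lift of the transpose, stalkwise. -/
def IsLiftH (a : stdSys J F ⟶ stdSys J G) (θ : Γ(RefHull.homSh F G, V)) : Prop :=
  ∀ y : V, (RefHull.stalkMapₗ ((Scheme.Modules.pullbackPushforwardAdjunction
      (FSch.completionToX X J n)).unit.app G) y.1).comp (θ.1 y) = RefHull.stalkMapₗ (transp J F G a n) y.1

omit [IsLocallyNoetherian X] in
theorem IsLiftH.res {a : stdSys J F ⟶ stdSys J G} {θ : Γ(RefHull.homSh F G, V)}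
    (h : IsLiftH J F G n V a θ) {V' : X.Opens} (le : V' ≤ V) :
    IsLiftH J F G n V' a ((RefHull.homSh F G).presheaf.map (homOfLE le).op θ) :=
  fun y => h ⟨y.1, le y.2⟩

omit [IsLocallyNoetherian X] in
theorem isLiftH_iff (hFq : Coh.IsQCoh F) (hV : IsAffineOpen V)
    (a : stdSys J F ⟶ stdSys J G) (θ : Γ(RefHull.homSh F G, V)) :
    IsLiftH J F G n V a θ ↔
      ∀ x : Γ(F, V), OmegaSh.pullSect (FSch.completionToX X J n) G V (toLin θ x) = (transp J F G a n).app V x := by
  let u := (Scheme.Modules.pullbackPushforwardAdjunction (FSch.completionToX X J n)).unit.app G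
  have h1 : ∀ (y : V) (x : Γ(F, V)), RefHull.stalkMapₗ u y.1 (θ.1 y (F.presheaf.germ V y.1 y.2 x)) =
      ((Scheme.Modules.pushforward (FSch.completionToX X J n)).obj
        ((Scheme.Modules.pullback (FSch.completionToX X J n)).obj G)).presheaf.germ V y.1 y.2
          (OmegaSh.pullSect (FSch.completionToX X J n) G V (toLin θ x)) := fun y x =>
    (congrArg (RefHull.stalkMapₗ u y.1) (germ_toLin θ x y).symm).trans
      (RefHull.stalkMapₗ_germ u y.1 y.2 (toLin θ x))
  refine ⟨fun h x => sec_ext ((Scheme.Modules.pushforward (FSch.completionToX X J n)).obj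
      ((Scheme.Modules.pullback (FSch.completionToX X J n)).obj G)) (U := V) fun y hy => ?_, fun h y => ?_⟩
  · exact (h1 ⟨y, hy⟩ x).symm.trans ((LinearMap.congr_fun (h ⟨y, hy⟩) _).trans
      (RefHull.stalkMapₗ_germ (transp J F G a n) y hy x))
  · refine LinearMap.ext_on (span_germ_all F hFq hV le_rfl y.1 y.2) ?_
    rintro _ ⟨x, rfl⟩
    exact (h1 y x).trans ((congrArg _ (h x)).trans (RefHull.stalkMapₗ_germ (transp J F G a n) y.1 y.2 x).symm)

theorem exists_liftH (hFq : Coh.IsQCoh F) (hGq : Coh.IsQCoh G) (hV : FreeOn F V)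
    (a : stdSys J F ⟶ stdSys J G) : ∃ θ, IsLiftH J F G n V a θ := by
  obtain ⟨hVa, hfree, hfin⟩ := hV
  haveI : IsClosedImmersion (FSch.completionToX X J n) := H24FMod.isClosedImmersion_completionToX (𝓘 := J) n
  let bs := Module.Free.chooseBasis Γ(X, V) Γ(F, V)
  choose g hg using fun i => (H17.PullSect.isQuotOn_of_isAffineOpen (FSch.completionToX X J n) G hGq hVa).1
    ((transp J F G a n).app V (bs i))
  obtain ⟨θ, hθ⟩ := (bijective_toLinₗ F G hFq hVa).2 (bs.constr Γ(X, V) g)
  refine ⟨θ, (isLiftH_iff J F G n V hFq hVa a θ).2 fun x => ?_⟩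
  rw [show toLin θ = bs.constr Γ(X, V) g from hθ, ← bs.sum_repr x, map_sum, map_sum, map_sum]
  refine Finset.sum_congr rfl fun i _ => ?_
  rw [map_smul, bs.constr_basis, OmegaSh.pullSect_smul, hg]
  exact ((transp J F G a n).app_smul _ _).symm

theorem cong_of_eval (hFq : Coh.IsQCoh F) (hGq : Coh.IsQCoh G) (hV : FreeOn F V) (θ θ' : Γ(RefHull.homSh F G, V)) :
    (∀ x : Γ(F, V), OmegaSh.pullSect (FSch.completionToX X J n) G V (toLin θ x) =
      OmegaSh.pullSect (FSch.completionToX X J n) G V (toLin θ' x)) ↔ Cong J (RefHull.homSh F G) n V θ θ' := by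
  obtain ⟨hVa, hfree, hfin⟩ := hV
  haveI : IsClosedImmersion (FSch.completionToX X J n) := H24FMod.isClosedImmersion_completionToX (𝓘 := J) n
  obtain ⟨-, hker⟩ := H17.PullSect.isQuotOn_of_isAffineOpen (FSch.completionToX X J n) G hGq hVa
  have hlin : ∀ x, toLin (θ - θ') x = toLin θ x - toLin θ' x := fun x =>
    LinearMap.congr_fun (map_sub (toLinₗ F G V) θ θ') x
  refine ⟨fun h => ?_, fun h x => ?_⟩
  · let bs := Module.Free.chooseBasis Γ(X, V) Γ(F, V)
    let T := LinearEquiv.ofBijective (toLinₗ F G V) (bijective_toLinₗ F G hFq hVa)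
    have h1 : T (θ - θ') = ∑ i, (bs.coord i).smulRight (toLin (θ - θ') (bs i)) := by
      refine bs.ext fun j => ?_
      simp [T, toLinₗ, Finsupp.single_apply]
    unfold Cong
    rw [← T.symm_apply_apply (θ - θ'), h1, map_sum]
    refine Submodule.sum_mem _ fun i _ => ?_
    have h2 : toLin (θ - θ') (bs i) ∈ lI J n V • (⊤ : Submodule Γ(X, V) Γ(G, V)) := by
      refine hker _ ?_
      rw [hlin, map_sub, h, sub_self]
    refine Submodule.smul_induction_on h2 (fun r hr m _ => ?_) fun p q hp hq => ?_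
    · rw [show (bs.coord i).smulRight (r • m) = r • (bs.coord i).smulRight m from
        LinearMap.ext fun z => smul_comm _ _ _, map_smul]
      exact Submodule.smul_mem_smul hr Submodule.mem_top
    · rw [show (bs.coord i).smulRight (p + q) = (bs.coord i).smulRight p + (bs.coord i).smulRight q from
        LinearMap.ext fun z => smul_add _ _ _, map_add]
      exact add_mem hp hq
  · refine sub_eq_zero.1 ?_
    rw [← map_sub, ← hlin]
    refine Submodule.smul_induction_on h (fun r hr η _ => ?_) fun η η' h1 h2 => ?_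
    · rw [show toLin (r • η) x = r • toLin η x from LinearMap.congr_fun (map_smul (toLinₗ F G V) r η) x,
        OmegaSh.pullSect_smul, show (FSch.completionToX X J n).app V r = 0 from hr, zero_smul]
    · rw [show toLin (η + η') x = toLin η x + toLin η' x from
        LinearMap.congr_fun (map_add (toLinₗ F G V) η η') x, map_add, h1, h2, add_zero]

omit [IsLocallyNoetherian X] in
theorem transp_succ (a : stdSys J F ⟶ stdSys J G) (x : Γ(F, V)) (g : Γ(G, V))
    (h : OmegaSh.pullSect (FSch.completionToX X J (n + 1)) G V g = (transp J F G a (n + 1)).app V x) :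
    OmegaSh.pullSect (FSch.completionToX X J n) G V g = (transp J F G a n).app V x := by
  rw [transp_app] at h ⊢
  exact pullSect_succ (FSch.completionToX X J) (FSch.completionToX_comm X J) (stdT J) (fun _ => rfl) a n V x g h

end Lifts

include hF hG in
/-- A morphism of finite locally free modules is determined by and algebraizes from its completion. -/
theorem complHom_bijective (hD : ∀ D : X.Modules, FlatMod.IsFinLocFree D → Lef.HomToFormalBijective J D) :
    (∀ φ φ' : F ⟶ G, (∀ n, (Scheme.Modules.pullback (FSch.completionToX X J n)).map φ =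
        (Scheme.Modules.pullback (FSch.completionToX X J n)).map φ') → φ = φ') ∧
    ∀ a : stdSys J F ⟶ stdSys J G,
      ∃ φ : F ⟶ G, ∀ n, (Scheme.Modules.pullback (FSch.completionToX X J n)).map φ = a.app n := by
  let H := RefHull.homSh F G
  have hH : FlatMod.IsFinLocFree H := isFinLocFree_homSh hF hG
  have hFq : Coh.IsQCoh F := H8Props.FinLocFree.isQCoh_of_isFinLocFree F hF
  have hGq : Coh.IsQCoh G := H8Props.FinLocFree.isQCoh_of_isFinLocFree G hG
  let B : X.Opens → Prop := fun V => FreeOn F V ∧ FreeOn G V ∧ FreeOn H V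
  have hbase : ∀ (W : X.Opens) (x : X), x ∈ W → ∃ U, B U ∧ x ∈ U ∧ U ≤ W := exists_base F G H hF hG hH
  obtain ⟨hinj, hsur⟩ := exists_section J H hH (hD _ (isFinLocFree_homSh hH (H05EGA4.LefConn.isFinLocFree_unit X)))
    B (fun V hV => hV.2.2) hbase
  have nat : ∀ (n : ℕ) (χ : F ⟶ G) (V : X.Opens) (x : Γ(F, V)),
      OmegaSh.pullSect (FSch.completionToX X J n) G V (χ.app V x) =
        ((Scheme.Modules.pullback (FSch.completionToX X J n)).map χ).app _
          (OmegaSh.pullSect (FSch.completionToX X J n) F V x) := fun n χ V x =>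
    H24FSch.comp_eq_apply ((Scheme.Modules.pullbackPushforwardAdjunction
      (FSch.completionToX X J n)).unit.naturality χ) V x
  refine ⟨fun φ φ' h => ?_, fun a => ?_⟩
  · refine ofHom_injective (sub_eq_zero.1 (hinj _ fun n V hV => ?_))
    have h1 : Cong J H n V (RefHull.ofHom φ V) (RefHull.ofHom φ' V) :=
      (cong_of_eval J F G n V hFq hGq hV.1 _ _).1 fun x => by
        rw [toLin_ofHom, toLin_ofHom, nat, nat, h n]
    unfold Cong at h1 ⊢
    rw [sub_zero, map_sub]
    exact h1
  · choose m hm using fun n V (hV : B V) => exists_liftH J F G n V hFq hGq hV.1 a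
    obtain ⟨σ, hσ⟩ := hsur m (fun n U U' hU hU' le => by
      refine (cong_of_eval J F G n U' hFq hGq hU'.1 _ _).1 fun x => ?_
      exact ((isLiftH_iff J F G n U' hFq hU'.1.1 a _).1 (hm n U' hU') x).trans
        ((isLiftH_iff J F G n U' hFq hU'.1.1 a _).1 ((hm n U hU).res J F G n U le) x).symm) fun n V hV => by
      refine (cong_of_eval J F G n V hFq hGq hV.1 _ _).1 fun x => ?_
      exact (transp_succ J F G n V a x _ ((isLiftH_iff J F G (n + 1) V hFq hV.1.1 a _).1 (hm (n + 1) V hV) x)).trans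
        ((isLiftH_iff J F G n V hFq hV.1.1 a _).1 (hm n V hV) x).symm
    obtain ⟨φ, hφ⟩ := ofHom_surjective σ
    refine ⟨φ, fun n => ((Scheme.Modules.pullbackPushforwardAdjunction (FSch.completionToX X J n)).homEquiv F _).injective
      (hom_ext_basis B hbase fun V hV x => ?_)⟩
    refine Eq.trans ?_ ((isLiftH_iff J F G n V hFq hV.1.1 a _).1 (hm n V hV) x)
    refine Eq.trans ?_ ((cong_of_eval J F G n V hFq hGq hV.1 _ _).2 (hσ n V hV) x)
    rw [Adjunction.homEquiv_unit]
    refine (nat n φ V x).symm.trans (congrArg (OmegaSh.pullSect (FSch.completionToX X J n) G V) ?_)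
    refine (toLin_ofHom φ V x).symm.trans ?_
    rw [← hφ]
    rfl

include hF hG in
/-- The same for the completion functor. -/
theorem exists_hom (hD : ∀ D : X.Modules, FlatMod.IsFinLocFree D → Lef.HomToFormalBijective J D)
    (a : FSch.completionMod J F ⟶ FSch.completionMod J G) :
    ∃ φ : F ⟶ G, ∀ n, (Scheme.Modules.pullback (FSch.completionToX X J n)).map φ = a.app n := by
  have eF : FSch.completionMod J F = stdSys J F := H24Depth2.completionMod_eq J F
  have eG : FSch.completionMod J G = stdSys J G := H24Depth2.completionMod_eq J G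
  obtain ⟨φ, hφ⟩ := (complHom_bijective J F G hF hG hD).2 (eqToHom eF.symm ≫ a ≫ eqToHom eG)
  refine ⟨φ, fun n => (hφ n).trans ?_⟩
  show (eqToHom eF.symm : stdSys J F ⟶ _).app n ≫ a.app n ≫ (eqToHom eG : _ ⟶ stdSys J G).app n = a.app n
  rw [eqToHom_app, eqToHom_app]
  exact (Category.id_comp _).trans (Category.comp_id _)

include hF hG in
/-- Isomorphic completions come from isomorphic modules. -/
theorem nonempty_iso (hD : ∀ D : X.Modules, FlatMod.IsFinLocFree D → Lef.HomToFormalBijective J D)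
    (a : FSch.completionMod J F ≅ FSch.completionMod J G) : Nonempty (F ≅ G) := by
  obtain ⟨φ, hφ⟩ := exists_hom J F G hF hG hD a.hom
  obtain ⟨ψ, hψ⟩ := exists_hom J G F hG hF hD a.inv
  refine ⟨⟨φ, ψ, (complHom_bijective J F F hF hF hD).1 _ _ fun n => ?_,
    (complHom_bijective J G G hG hG hD).1 _ _ fun n => ?_⟩⟩
  · rw [CategoryTheory.Functor.map_comp, hφ, hψ, CategoryTheory.Functor.map_id]
    exact congrArg (fun f : FSch.completionMod J F ⟶ FSch.completionMod J F => f.app n) a.hom_inv_id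
  · rw [CategoryTheory.Functor.map_comp, hφ, hψ, CategoryTheory.Functor.map_id]
    exact congrArg (fun f : FSch.completionMod J G ⟶ FSch.completionMod J G => f.app n) a.inv_hom_id

end Hom

end Groth.Agent.H11Leff.HomBij
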