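import Groth.Agent.H4Depth.DepthLemmas
import Groth.Agent.H4Depth.LocDepth
import Groth.Agent.H05EGA4.NormalFlat
import Groth.Agent.H4Depth.IdealDepth
import Groth.Prelude.Def_EGA4b

/-!
# Depth two along a normally flat ideal
-/

set_option autoImplicit false
set_option linter.style.haveILetI false

universe u

open IsLocalRing RingTheory.Sequence Pointwise

namespace Groth.Agent.H11Leff.NF

/-- `x, y` is a regular sequence, elementwise. -/
def Seq2 {A : Type u} [CommRing A] (x y : A) (M : Type u) [AddCommGroup M] [Module A M] : Prop :=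
  (∀ m : M, x • m = 0 → m = 0) ∧ ∀ m b : M, y • m = x • b → ∃ c, x • c = m

variable {A : Type u} [CommRing A]

theorem seq2_of_equiv {x y : A} {M N : Type u} [AddCommGroup M] [Module A M] [AddCommGroup N] [Module A N]
    (e : M ≃ₗ[A] N) (h : Seq2 x y M) : Seq2 x y N := by
  refine ⟨fun m hm => e.symm.injective (by rw [map_zero]; exact h.1 _ (by rw [← map_smul, hm, map_zero])),
    fun m b hb => ?_⟩
  obtain ⟨c, hc⟩ := h.2 (e.symm m) (e.symm b) (by rw [← map_smul, hb, map_smul])
  exact ⟨e c, by rw [← map_smul, hc, e.apply_symm_apply]⟩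

theorem seq2_pi {x y : A} {M : Type u} [AddCommGroup M] [Module A M] (h : Seq2 x y M) (r : ℕ) :
    Seq2 x y (Fin r → M) := by
  refine ⟨fun m hm => funext fun i => h.1 _ (congrFun hm i), fun m b hb => ?_⟩
  choose c hc using fun i => h.2 (m i) (b i) (congrFun hb i)
  exact ⟨c, funext hc⟩

theorem seq2_extension {x y : A} {P M Q : Type u} [AddCommGroup P] [Module A P] [AddCommGroup M] [Module A M]
    [AddCommGroup Q] [Module A Q] {f : P →ₗ[A] M} {g : M →ₗ[A] Q} (hf : Function.Injective f)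
    (hg : Function.Surjective g) (hfg : Function.Exact f g) (hP : Seq2 x y P) (hQ : Seq2 x y Q) : Seq2 x y M := by
  refine ⟨fun m hm => ?_, fun m b hb => ?_⟩
  · obtain ⟨p, rfl⟩ := (hfg m).1 (hQ.1 _ (by rw [← map_smul, hm, map_zero]))
    rw [hP.1 p (hf (by rw [map_smul, hm, map_zero])), map_zero]
  · obtain ⟨c', hc'⟩ := hQ.2 (g m) (g b) (by rw [← map_smul, ← map_smul, hb])
    obtain ⟨c, rfl⟩ := hg c'
    obtain ⟨p, hp⟩ := (hfg (m - x • c)).1 (by rw [map_sub, map_smul, hc', sub_self])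
    have h1 : y • f p = x • (b - y • c) := by rw [hp, smul_sub, smul_sub, hb, smul_comm]
    have h2 : g (b - y • c) = 0 := hQ.1 _ (by rw [← map_smul, ← h1, map_smul, hfg.apply_apply_eq_zero, smul_zero])
    obtain ⟨k, hk⟩ := (hfg _).1 h2
    obtain ⟨l, hl⟩ := hP.2 p k (hf (by rw [map_smul, map_smul, h1, hk]))
    exact ⟨c + f l, by rw [smul_add, ← map_smul, hl, hp, add_sub_cancel]⟩

theorem seq2_of_subsingleton (x y : A) (M : Type u) [AddCommGroup M] [Module A M] [Subsingleton M] : Seq2 x y M :=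
  ⟨fun _ _ => Subsingleton.elim _ _, fun _ _ _ => ⟨0, Subsingleton.elim _ _⟩⟩

theorem isWeaklyRegular_of_seq2 {x y : A} {M : Type u} [AddCommGroup M] [Module A M] (h : Seq2 x y M) :
    IsWeaklyRegular M [x, y] := by
  refine (isWeaklyRegular_cons_iff M x [y]).2 ⟨?_, (isWeaklyRegular_cons_iff _ y []).2 ⟨?_, IsWeaklyRegular.nil _ _⟩⟩
  · exact fun a b hab => sub_eq_zero.1 (h.1 _ (by rw [smul_sub]; exact sub_eq_zero.2 hab))
  · refine fun a b hab => sub_eq_zero.1 ?_
    obtain ⟨m, hm⟩ := Submodule.Quotient.mk_surjective _ (a - b)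
    have h0 : y • m ∈ x • (⊤ : Submodule A M) := by
      refine (Submodule.Quotient.mk_eq_zero _).1 ?_
      rw [Submodule.Quotient.mk_smul, hm, smul_sub]
      exact sub_eq_zero.2 hab
    obtain ⟨c, -, hc⟩ := (Submodule.mem_smul_pointwise_iff_exists _ _ _).1 h0
    obtain ⟨d, hd⟩ := h.2 m c hc.symm
    rw [← hm]
    exact (Submodule.Quotient.mk_eq_zero _).2 ((Submodule.mem_smul_pointwise_iff_exists _ _ _).2 ⟨d, trivial, hd⟩)

theorem seq2_of_isWeaklyRegular {x y : A} {M : Type u} [AddCommGroup M] [Module A M] (h : IsWeaklyRegular M [x, y]) :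
    Seq2 x y M := by
  obtain ⟨hx, h'⟩ := (isWeaklyRegular_cons_iff M x [y]).1 h
  obtain ⟨hy, -⟩ := (isWeaklyRegular_cons_iff _ y []).1 h'
  refine ⟨fun m hm => hx (show x • m = x • 0 by rw [hm, smul_zero]), fun m b hb => ?_⟩
  have h0 : (Submodule.Quotient.mk m : QuotSMulTop x M) = 0 := hy (show y • _ = y • 0 by
    rw [smul_zero, ← Submodule.Quotient.mk_smul]
    exact (Submodule.Quotient.mk_eq_zero _).2 ((Submodule.mem_smul_pointwise_iff_exists _ _ _).2 ⟨b, trivial, hb.symm⟩))
  obtain ⟨c, -, hc⟩ := (Submodule.mem_smul_pointwise_iff_exists _ _ _).1 ((Submodule.Quotient.mk_eq_zero _).1 h0)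
  exact ⟨c, hc⟩

variable [IsNoetherianRing A] [IsLocalRing A]

theorem two_le_depth_of_seq2 {x y : A} (hx : x ∈ maximalIdeal A) (hy : y ∈ maximalIdeal A) {M : Type u}
    [AddCommGroup M] [Module A M] (h : Seq2 x y M) : (2 : ℕ∞) ≤ LocCoh.depth A M :=
  H4Depth.length_le_idealDepth (I := maximalIdeal A) (isWeaklyRegular_of_seq2 h) (by
    simp only [List.mem_cons, List.not_mem_nil, or_false]
    rintro r (rfl | rfl) <;> assumption)

variable (J : Ideal A)

/-- A regular sequence of length two on `A/J` is regular on the truncations and on the ring. -/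
theorem depth_two (hJ : J ≠ ⊤) (hnf : EGA4.IsNormallyFlat J A)
    (hd : (2 : ℕ∞) ≤ LocCoh.depth A (A ⧸ J)) :
    (2 : ℕ∞) ≤ LocCoh.depth A A ∧ ∀ n : ℕ, (2 : ℕ∞) ≤ LocCoh.depth A (A ⧸ (J ^ (n + 1) • ⊤ : Submodule A A)) := by
  haveI : Nontrivial (A ⧸ J) := Ideal.Quotient.nontrivial_iff.2 hJ
  haveI : IsLocalRing (A ⧸ J) := .of_surjective' _ Ideal.Quotient.mk_surjective
  obtain ⟨rs, hlen, hmem, hreg⟩ := H4Depth.exists_isWeaklyRegular_of_le_idealDepth
    (H4Depth.maximalIdeal_smul_top_ne_top (M := A ⧸ J)) (n := 2) hd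
  obtain ⟨x, y, rfl⟩ := List.length_eq_two.1 hlen
  have hx : x ∈ maximalIdeal A := hmem x (by simp)
  have hy : y ∈ maximalIdeal A := hmem y (by simp)
  have h0 : Seq2 x y (A ⧸ J) := seq2_of_isWeaklyRegular hreg
  have hQ : ∀ n : ℕ, Seq2 x y (A ⧸ (J ^ n • ⊤ : Submodule A A)) := by
    intro n
    induction n with
    | zero =>
      haveI : Subsingleton (A ⧸ (J ^ 0 • ⊤ : Submodule A A)) :=
        Submodule.Quotient.subsingleton_iff.2 (by rw [pow_zero, Ideal.one_eq_top, Submodule.top_smul])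
      exact seq2_of_subsingleton x y _
    | succ n ih =>
      let L : Submodule A A := J ^ n • ⊤
      let P := L ⧸ (J • (⊤ : Submodule A L))
      haveI : Module.Flat (A ⧸ J) P := hnf n
      haveI : Module.Finite A P := inferInstance
      haveI : Module.Finite (A ⧸ J) P := Module.Finite.of_restrictScalars_finite A (A ⧸ J) P
      haveI : Module.Free (A ⧸ J) P := Module.free_of_flat_of_isLocalRing
      let b := (Module.finBasis (A ⧸ J) P).equivFun.restrictScalars A
      have hP : Seq2 x y P := seq2_of_equiv b.symm (seq2_pi h0 _)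
      have hmap : (J • (⊤ : Submodule A L)).map L.subtype = J ^ (n + 1) • (⊤ : Submodule A A) := by
        rw [Submodule.map_smul'', Submodule.map_subtype_top, ← Submodule.mul_smul, ← pow_succ']
      let f : P →ₗ[A] A ⧸ (J ^ (n + 1) • ⊤ : Submodule A A) :=
        Submodule.mapQ _ _ L.subtype (Submodule.map_le_iff_le_comap.1 hmap.le)
      let g : A ⧸ (J ^ (n + 1) • ⊤ : Submodule A A) →ₗ[A] A ⧸ (J ^ n • ⊤ : Submodule A A) :=
        Submodule.factor (Submodule.smul_mono_left (Ideal.pow_le_pow_right (Nat.le_succ n)))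
      refine seq2_extension (f := f) (g := g) ?_ (Submodule.factor_surjective _) (fun q => ?_) hP ih
      · refine (injective_iff_map_eq_zero f).2 fun p hp => ?_
        obtain ⟨l, rfl⟩ := Submodule.Quotient.mk_surjective _ p
        have hl : (l : A) ∈ (J • (⊤ : Submodule A L)).map L.subtype :=
          hmap.ge ((Submodule.Quotient.mk_eq_zero _).1 hp)
        obtain ⟨l', hl', he⟩ := hl
        exact (Submodule.Quotient.mk_eq_zero _).2 (Subtype.val_injective he ▸ hl')
      · obtain ⟨a, rfl⟩ := Submodule.Quotient.mk_surjective _ q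
        refine ⟨fun h => ⟨Submodule.Quotient.mk ⟨a, (Submodule.Quotient.mk_eq_zero _).1 h⟩, rfl⟩, ?_⟩
        rintro ⟨p, hp⟩
        obtain ⟨l, rfl⟩ := Submodule.Quotient.mk_surjective _ p
        rw [← hp]
        exact (Submodule.Quotient.mk_eq_zero _).2 l.2
  refine ⟨two_le_depth_of_seq2 hx hy ⟨fun m hm => ?_, fun m b hb => ?_⟩,
    fun n => two_le_depth_of_seq2 hx hy (hQ (n + 1))⟩
  · haveI : IsHausdorff J A := IsHausdorff.of_isLocalRing J _ hJ
    refine IsHausdorff.haus (I := J) inferInstance m fun n => ?_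
    rw [SModEq.zero]
    refine (Submodule.Quotient.mk_eq_zero _).1 ((hQ n).1 _ ?_)
    rw [← Submodule.Quotient.mk_smul, hm, Submodule.Quotient.mk_zero]
  · let K : Submodule A A := x • ⊤
    haveI : IsHausdorff J (A ⧸ K) := IsHausdorff.of_isLocalRing J _ hJ
    have hm : (Submodule.Quotient.mk m : A ⧸ K) = 0 := IsHausdorff.haus (I := J) inferInstance _ fun n => by
      obtain ⟨c, hc⟩ := (hQ n).2 (Submodule.Quotient.mk m) (Submodule.Quotient.mk b)
        (by rw [← Submodule.Quotient.mk_smul, hb, Submodule.Quotient.mk_smul])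
      obtain ⟨c, rfl⟩ := Submodule.Quotient.mk_surjective _ c
      have h1 : x • c - m ∈ (J ^ n • ⊤ : Submodule A A) :=
        (Submodule.Quotient.eq _).1 ((Submodule.Quotient.mk_smul _ _ _).trans hc)
      rw [SModEq.zero]
      have h2 := Submodule.mem_map_of_mem (f := K.mkQ) h1
      rw [Submodule.map_smul'', Submodule.map_top, Submodule.range_mkQ, map_sub] at h2
      rw [show K.mkQ (x • c) = 0 from (Submodule.Quotient.mk_eq_zero K).2
        ((Submodule.mem_smul_pointwise_iff_exists _ _ _).2 ⟨c, trivial, rfl⟩), zero_sub] at h2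
      exact neg_mem_iff.1 h2
    obtain ⟨c, -, hc⟩ := (Submodule.mem_smul_pointwise_iff_exists _ _ _).1 ((Submodule.Quotient.mk_eq_zero K).1 hm)
    exact ⟨c, hc⟩

end Groth.Agent.H11Leff.NF
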