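import Groth.Agent.H11LefFEt.Principal
import Groth.Agent.H11LefFEt.QuasiAffine
import Groth.Agent.H24NFlat.Main
import Groth.Agent.H24NFlat.Sections
import Groth.Agent.H11Leff.NFDepth
import Groth.Agent.H24FMod.SysBridge
import Groth.Agent.H24FMod.AlgPred

/-!
# Completeness of functions on an open with depth two at the points left out
-/

set_option autoImplicit false
set_option linter.style.haveILetI false
set_option backward.isDefEq.respectTransparency false

universe u

open CategoryTheory CategoryTheory.Limits AlgebraicGeometry Opposite TopologicalSpace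

attribute [-instance] CategoryTheory.catToReflQuiver

namespace Groth.Agent.H11Leff.NF

open H11LefFEt

section Levels

variable {A : Type u} [CommRing A] {X : Scheme.{u}} [X.Over (Spec (CommRingCat.of A))] [IsLocallyNoetherian X]
variable (I : Ideal A) (hI : I.FG) (J : X.IdealSheafData) (hJ : J = H24GE.idealOf X I)

include hI hJ in
theorem exists_levelIso (n : ℕ) :
    ∃ ρ : Formal.modPow I (n + 1) (Coh.structureModule X) ≅ ClSub.quotMod (J ^ (n + 1)),
      Formal.modPowπ I (n + 1) (Coh.structureModule X) ≫ ρ.hom = ClSub.toSubscheme (J ^ (n + 1)) := by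
  have hN : Coh.IsCoh (ClSub.quotMod (J ^ (n + 1))) := H24FSch.isCoh_pushforward_of_isClosedImmersion _ (H10Coh.isCoh_structureModule' _)
  have hk : Formal.KilledBy (I ^ (n + 1)) (ClSub.quotMod (J ^ (n + 1))) := by
    refine (H24GE.killedByIdeal_iff I (n + 1) _).1 ?_
    have h := H24GE.killedByIdeal_pushforward_ker (J ^ (n + 1)).subschemeι
      (Coh.structureModule (J ^ (n + 1)).subscheme)
    rw [Scheme.IdealSheafData.ker_subschemeι] at h
    rw [← hJ]
    exact h
  obtain ⟨h, hiso⟩ := H24FMod.exists_isIso_desc I hI n (H10Coh.isCoh_structureModule' X) hN hk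
    (ClSub.toSubscheme (J ^ (n + 1))) (fun V => (J ^ (n + 1)).subschemeι.app_surjective V.1 V.2) fun V (z : Γ(Coh.structureModule X, V.1)) hz => by
      have h1 : (show Γ(X, V.1) from z) ∈ RingHom.ker ((J ^ (n + 1)).subschemeι.app V.1).hom := hz
      rw [show RingHom.ker ((J ^ (n + 1)).subschemeι.app V.1).hom = (J ^ (n + 1)).ideal V from
        (J ^ (n + 1)).ker_subschemeι_app V, hJ, H24GE.ideal_idealOf_pow, H24GE.secIdeal_pow] at h1
      let one' : Γ(Coh.structureModule X, V.1) := (1 : Γ(X, V.1))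
      have h2 := Submodule.smul_mem_smul h1 (Submodule.mem_top (R := Γ(X, V.1)) (x := one'))
      convert h2 using 1
      exact (mul_one (show Γ(X, V.1) from z)).symm
  exact ⟨@asIso _ _ _ _ _ hiso, cokernel.π_desc _ _ _⟩

include hI hJ in
/-- Completeness of functions in the `A`-adic formulation gives it along the closed subscheme. -/
theorem homToFormal_of_toHHlim
    (h : Function.Bijective (Formal.toHHlim I (Coh.structureModule X) 0)) :
    Lef.HomToFormalBijective J (Coh.structureModule X) := by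
  let O := Coh.structureModule X
  choose ρ hρ using exists_levelIso I hI J hJ
  have htr : ∀ n, Formal.modPowTrans I (n + 1) O ≫ (ρ n).hom =
      (ρ (n + 1)).hom ≫ Lef.quotMap (Lef.pow_succ_le J n) := fun n => by
    haveI : Epi (Formal.modPowπ I (n + 1 + 1) O) := coequalizer.π_epi
    rw [← cancel_epi (Formal.modPowπ I (n + 1 + 1) O), ← Category.assoc, Formal.modPowπ_trans,
      hρ, ← Category.assoc, hρ]
    exact (toSubscheme_quotMap _).symm
  let H0 := H10Coh.HH0Equiv (X := X) O
  let E : ∀ n, Formal.HHmodPow I O 0 n → Γ(ClSub.quotMod (J ^ (n + 1)), ⊤) := fun n x =>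
    (ρ n).hom.app ⊤ (H10Coh.HH0Equiv _ x)
  have hE : ∀ n, Function.Bijective (E n) := fun n =>
    (H17.PullSect.bijective_app (ρ n).hom ⊤).comp (H10Coh.HH0Equiv _).bijective
  have hproj : ∀ n x, E n (Formal.toHHmodPow I O 0 n x) = (ClSub.toSubscheme (J ^ (n + 1))).app ⊤ (H0 x) :=
    fun n x => (congrArg ((ρ n).hom.app ⊤) (H28NT.HH0Equiv_map _ x)).trans (hom_app_eq (hρ n) ⊤ (H0 x))
  have htrans : ∀ n x, E n (Formal.HHmodPowTrans I O 0 n x) =
      (Lef.quotMap (Lef.pow_succ_le J n)).app ⊤ (E (n + 1) x) :=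
    fun n x => (congrArg ((ρ n).hom.app ⊤) (H28NT.HH0Equiv_map _ x)).trans (hom_app_eq (htr n) ⊤ _)
  refine ⟨fun φ ψ hφψ => H05EGA4.LefConn.unit_hom_ext ?_, fun y hy => ?_⟩
  · have h1 : H0.symm (φ.app ⊤ (1 : Γ(X, ⊤))) = H0.symm (ψ.app ⊤ (1 : Γ(X, ⊤))) :=
      h.1 (Subtype.ext (funext fun n => (hE n).1 (by
        refine (hproj n _).trans (Eq.trans ?_ (hproj n _).symm)
        rw [H0.apply_symm_apply, H0.apply_symm_apply]
        exact hom_app_eq (hφψ n) ⊤ (1 : Γ(X, ⊤)))))
    exact H0.symm.injective h1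
  · choose t ht using fun n => (hE n).2 ((y n).app ⊤ (1 : Γ(X, ⊤)))
    obtain ⟨x, hx⟩ := h.2 ⟨t, fun n => (hE n).1 ((htrans n _).trans (by
      rw [ht, ht]
      exact hom_app_eq (hy n) ⊤ (1 : Γ(X, ⊤))))⟩
    refine ⟨secHom' O (H0 x), fun n => H05EGA4.LefConn.unit_hom_ext ?_⟩
    refine Eq.trans ?_ (ht n)
    refine Eq.trans (congrArg ((ClSub.toSubscheme (J ^ (n + 1))).app ⊤) (secHom'_one O (H0 x))) ?_
    refine (hproj n x).symm.trans (congrArg (E n) ?_)
    exact congrFun (congrArg Subtype.val hx) n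

end Levels

section Sections

variable (A : Type u) [CommRing A] [IsNoetherianRing A]

/-- Completion along a normally flat ideal is fully faithful on finite locally free modules. -/
theorem homToFormal_of_normallyFlat (J I : Ideal A) [IsAdicComplete J A] (hnf : EGA4.IsNormallyFlat J A)
    (h₁ : ∀ x : PrimeSpectrum A, I ≤ x.asIdeal → J ≤ x.asIdeal →
      (2 : ℕ∞) ≤ LocCoh.depth (Localization.AtPrime x.asIdeal)
        (Localization.AtPrime x.asIdeal ⧸ J.map (algebraMap A (Localization.AtPrime x.asIdeal))))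
    (h₂ : ∀ x : PrimeSpectrum A, I ≤ x.asIdeal → ¬ J ≤ x.asIdeal →
      (2 : ℕ∞) ≤ LocCoh.depth (Localization.AtPrime x.asIdeal) (Localization.AtPrime x.asIdeal))
    (U : (Spec (CommRingCat.of A)).Opens) (hU : U = LocCoh.puncturedOpen A I)
    (D : (U : Scheme.{u}).Modules) (hD : FlatMod.IsFinLocFree D) :
    Lef.HomToFormalBijective ((FSch.idealSpec A J).comap U.ι) D := by
  subst hU
  let U := LocCoh.puncturedOpen A I
  haveI : IsNoetherianRing ↑(CommRingCat.of A) := ‹IsNoetherianRing A›
  haveI : IsLocallyNoetherian (U : Scheme.{u}) := isLocallyNoetherian_of_isOpenImmersion U.ι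
  haveI : CompactSpace (U : Scheme.{u}) := isCompact_iff_compactSpace.1 (TopologicalSpace.NoetherianSpace.isCompact _)
  haveI : AlgebraicGeometry.IsNoetherian (U : Scheme.{u}) := ⟨⟩
  haveI : (U : Scheme.{u}).IsQuasiAffine := Scheme.IsQuasiAffine.of_isImmersion U.ι
  have hdep : ∀ x : PrimeSpectrum A, I ≤ x.asIdeal →
      (2 : ℕ∞) ≤ LocCoh.depth (Localization.AtPrime x.asIdeal) (Localization.AtPrime x.asIdeal) := fun x hx => by
    by_cases hJx : J ≤ x.asIdeal
    · refine (depth_two _ ?_ (H05EGA4.NormalFlat.isNormallyFlat_localized x.asIdeal.primeCompl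
        (Localization.AtPrime x.asIdeal) (Algebra.linearMap A (Localization.AtPrime x.asIdeal)) hnf) (h₁ x hx hJx)).1
      refine ne_top_of_le_ne_top (IsLocalRing.maximalIdeal.isMaximal (Localization.AtPrime x.asIdeal)).ne_top ?_
      rw [← Localization.AtPrime.map_eq_maximalIdeal]
      exact Ideal.map_mono hJx
    · exact h₂ x hx hJx
  refine H11LefFEt.homToFormal_of_quasiAffine _ (homToFormal_of_toHHlim J (IsNoetherian.noetherian J) _ ?_
    (H24Formal2.Bridge.bijective_toHHlim_structure A J U (H24NFlat.formalCohBijective A J I hnf h₁ hdep))) hD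
  exact (H24GE.idealOf_eq_comap (X := (U : Scheme.{u})) J).symm

end Sections

end Groth.Agent.H11Leff.NF
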