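import Groth.Agent.H11Leff.LefNF
import Groth.Agent.H11Leff.AlgNF
import Groth.Agent.H4LC.Depth
import Groth.Agent.H4LC.AdjDepth
import Groth.Agent.H24Punct.Main
import Groth.Agent.H8Props.FlatDepth

/-!
# The two Lefschetz statements along normally flat ideals
-/

set_option autoImplicit false
set_option linter.style.haveILetI false
set_option backward.isDefEq.respectTransparency false

universe u

open CategoryTheory CategoryTheory.Limits AlgebraicGeometry Opposite TopologicalSpace IsLocalRing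

attribute [-instance] CategoryTheory.catToReflQuiver

namespace Groth.Agent.H11Leff.NF

variable {A : Type u} [CommRing A]

theorem isNormallyFlat_of_pieces (J : Ideal A)
    (h : ∀ n : ℕ, Module.Flat (A ⧸ J) (↥(J ^ n) ⧸ (J • (⊤ : Submodule A ↥(J ^ n))))) : EGA4.IsNormallyFlat J A := by
  intro n
  have e : (J ^ n • (⊤ : Submodule A A)) = (J ^ n : Submodule A A) := by simp
  have key : ∀ S T : Submodule A A, S = T → Module.Flat (A ⧸ J) (↥T ⧸ (J • (⊤ : Submodule A ↥T))) →
      Module.Flat (A ⧸ J) (↥S ⧸ (J • (⊤ : Submodule A ↥S))) := by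
    rintro S T rfl hT
    exact hT
  exact key _ _ e (h n)

theorem puncturedOpen_eq_iSup (I : Ideal A) :
    (⨆ f : ↥I, (Spec (CommRingCat.of A)).basicOpen ((Scheme.ΓSpecIso (CommRingCat.of A)).inv f.1)) =
      LocCoh.puncturedOpen A I := by
  refine Opens.ext (Set.ext fun p => ?_)
  rw [SetLike.mem_coe, Opens.mem_iSup]
  refine Iff.trans ?_ (show (∃ a ∈ I, a ∉ p.asIdeal) ↔ ¬ (I : Set A) ⊆ p.asIdeal from Set.not_subset.symm)
  have key : ∀ a : A, p ∈ (Spec (CommRingCat.of A)).basicOpen ((Scheme.ΓSpecIso (CommRingCat.of A)).inv a) ↔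
      a ∉ p.asIdeal := fun a => by
    rw [basicOpen_eq_of_affine', show (Scheme.ΓSpecIso (CommRingCat.of A)).hom ((Scheme.ΓSpecIso (CommRingCat.of A)).inv a) = a
      from (Scheme.ΓSpecIso (CommRingCat.of A)).inv_hom_id_apply a]
    rfl
  exact ⟨fun ⟨f, hf⟩ => ⟨f.1, f.2, (key _).1 hf⟩, fun ⟨a, ha, hp⟩ => ⟨⟨a, ha⟩, (key _).2 hp⟩⟩

variable [IsNoetherianRing A]

/-- Depth drops by at most one under generization by one step. -/
theorem depth_quot_covBy (J : Ideal A) {x y : PrimeSpectrum A} (hxy : x ⋖ y)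
    (h : (3 : ℕ∞) ≤ LocCoh.depth (Localization.AtPrime y.asIdeal)
      (Localization.AtPrime y.asIdeal ⧸ J.map (algebraMap A (Localization.AtPrime y.asIdeal)))) :
    (2 : ℕ∞) ≤ LocCoh.depth (Localization.AtPrime x.asIdeal)
      (Localization.AtPrime x.asIdeal ⧸ J.map (algebraMap A (Localization.AtPrime x.asIdeal))) := by
  obtain ⟨ey⟩ := H05EGA4.NormalFlat.nonempty_quotient_localized_equiv J y.asIdeal
  obtain ⟨ex⟩ := H05EGA4.NormalFlat.nonempty_quotient_localized_equiv J x.asIdeal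
  rw [← H4Depth.depth_congr ey] at h
  rw [← H4Depth.depth_congr ex]
  have h1 : Order.height (⟨y, hxy.le⟩ : Set.Ici x) ≤ 1 := by
    refine iSup_le fun l => iSup_le fun hl => ?_
    by_contra hl'
    have h2 : 2 ≤ l.length := by
      by_contra h3
      exact hl' (by exact_mod_cast (show l.length ≤ 1 by omega))
    have h01 : l ⟨0, by omega⟩ < l ⟨1, by omega⟩ := l.strictMono (Fin.mk_lt_mk.2 zero_lt_one)
    have h1y : l ⟨1, by omega⟩ < (⟨y, hxy.le⟩ : Set.Ici x) := lt_of_lt_of_le
      (l.strictMono (show (⟨1, by omega⟩ : Fin (l.length + 1)) < Fin.last l.length from h2)) hl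
    exact hxy.2 (lt_of_le_of_lt (l ⟨0, by omega⟩).2 h01) h1y
  have h4 := h.trans ((H4LC.depth_localization_le_add_height (A ⧸ J) hxy.le).trans
    (add_le_add le_rfl h1))
  exact WithTop.le_of_add_le_add_right WithTop.one_ne_top h4

theorem finite_H_of_regular (R : Type u) [CommRing R] [IsRegularRing R] (π : R →+* A) (hπ : Function.Surjective π)
    (J I : Ideal A)
    (hb : ∀ p : Ideal A, ∀ _ : p.IsPrime, I ≤ p → J ≤ p → (3 : ℕ∞) ≤ LocCoh.depth (Localization.AtPrime p)
      (Localization.AtPrime p ⧸ J.map (algebraMap A (Localization.AtPrime p))))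
    (i : ℕ) (hi : i ≤ 2) : Module.Finite A (LocCoh.H I i (A ⧸ J)) :=
  H24NFlat.finite_H_quotient J I ((Ideal.Quotient.mk J).comp π) (Ideal.Quotient.mk_surjective.comp hπ)
    (fun _ y _ hIy _ hJy hxy => depth_quot_covBy J hxy (hb y.asIdeal y.2 hIy hJy)) i hi

section LocalRing

variable [IsLocalRing A] (J : Ideal A) [IsLocalRing (A ⧸ J)] (hd : (3 : ℕ∞) ≤ LocCoh.depth (A ⧸ J) (A ⧸ J))

include hd in
theorem depth_quot : (3 : ℕ∞) ≤ LocCoh.idealDepth (maximalIdeal A) (A ⧸ J) := by
  rw [← H8Props.FlatDepth.idealDepth_map_of_surjective (R := A) (S := A ⧸ J) Ideal.Quotient.mk_surjective]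
  have hm : (maximalIdeal A).map (algebraMap A (A ⧸ J)) = maximalIdeal (A ⧸ J) :=
    IsLocalRing.map_maximalIdeal_of_surjective _ Ideal.Quotient.mk_surjective
  rw [hm]
  exact hd

include hd in
theorem finite_H_local (i : ℕ) (hi : i ≤ 2) : Module.Finite A (LocCoh.H (maximalIdeal A) i (A ⧸ J)) :=
  haveI : Subsingleton (LocCoh.H (maximalIdeal A) i (A ⧸ J)) :=
    (H4LC.le_idealDepth_iff_H (maximalIdeal A) (A ⧸ J) (n := 3)).1 (depth_quot J hd) i (by omega)
  Module.Finite.of_surjective (0 : A →ₗ[A] _) fun z => ⟨0, Subsingleton.elim _ _⟩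

include hd in
theorem depth_local (p : PrimeSpectrum A) (hp : maximalIdeal A ≤ p.asIdeal) :
    (2 : ℕ∞) ≤ LocCoh.depth (Localization.AtPrime p.asIdeal)
      (Localization.AtPrime p.asIdeal ⧸ J.map (algebraMap A (Localization.AtPrime p.asIdeal))) := by
  obtain ⟨e⟩ := H05EGA4.NormalFlat.nonempty_quotient_localized_equiv J p.asIdeal
  rw [← H4Depth.depth_congr e]
  exact (le_trans (by norm_num) (depth_quot J hd)).trans
    (H4Depth.idealDepth_le_depth_localization p.asIdeal hp)

end LocalRing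

end Groth.Agent.H11Leff.NF
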