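import Groth.Agent.H11Leff.PicStep
import Groth.Agent.H11Leff.HomBij
import Groth.Agent.H11LefFEt.Transfer
import Groth.Agent.H26Gr.QuotBC
import Groth.Agent.H11Leff.FreeNhd
import Groth.Agent.H11Tilde.Local
import Groth.Agent.H17.Canon.SmoothLocus
import Groth.Prelude.Def_LefX
import Groth.Prelude.Def_Formal2

/-!
# Picard groups of the formal completion and of the neighbourhoods
-/

set_option autoImplicit false
set_option linter.style.haveILetI false

universe u

open CategoryTheory CategoryTheory.Limits AlgebraicGeometry TopologicalSpace Opposite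
open Groth.Agent Groth.Agent.H11Leff.PicStep

attribute [-instance] CategoryTheory.catToReflQuiver

namespace Groth.Agent.H11Leff.PicSys

/-- An isomorphism at one level extends to the whole system when isomorphisms lift. -/
theorem nonempty_iso_of_level {𝔛 : FSch.Sys.{u}} (A B : FSch.ModSys 𝔛) (n : ℕ) (x : A.F n ≅ B.F n)
    (hlift : ∀ m, n ≤ m → ∀ y : (Scheme.Modules.pullback (𝔛.ι m)).obj (A.F (m + 1)) ≅
      (Scheme.Modules.pullback (𝔛.ι m)).obj (B.F (m + 1)),
      ∃ y', (Scheme.Modules.pullback (𝔛.ι m)).mapIso y' = y) : Nonempty (A ≅ B) := by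
  let res : ∀ m, (A.F (m + 1) ≅ B.F (m + 1)) → (A.F m ≅ B.F m) := fun m y =>
    (A.e m).symm ≪≫ (Scheme.Modules.pullback (𝔛.ι m)).mapIso y ≪≫ B.e m
  have hstep : ∀ k (y : A.F (n + k) ≅ B.F (n + k)), ∃ y' : A.F (n + (k + 1)) ≅ B.F (n + (k + 1)),
      res (n + k) y' = y := fun k y => by
    obtain ⟨y', hy'⟩ := hlift (n + k) (Nat.le_add_right n k) (A.e (n + k) ≪≫ y ≪≫ (B.e (n + k)).symm)
    refine ⟨y', ?_⟩
    show (A.e (n + k)).symm ≪≫ _ ≪≫ B.e (n + k) = y
    rw [hy']
    ext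
    simp
  choose up hup using hstep
  let G : ∀ k, A.F (n + k) ≅ B.F (n + k) := fun k =>
    Nat.rec (motive := fun k => A.F (n + k) ≅ B.F (n + k)) x (fun k y => up k y) k
  let a : ∀ m, A.F m ≅ B.F m := fun m =>
    Nat.decreasingInduction (motive := fun i _ => A.F i ≅ B.F i) (fun i _ y => res i y) (G m) (Nat.le_add_left m n)
  have hres : ∀ m, a m = res m (a (m + 1)) := fun m => by
    rw [show res m (a (m + 1)) = Nat.decreasingInduction (motive := fun i _ => A.F i ≅ B.F i) (fun i _ y => res i y)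
      (G (m + 1)) ((Nat.le_succ m).trans (Nat.le_add_left (m + 1) n)) from
        (Nat.decreasingInduction_succ_left (motive := fun i _ => A.F i ≅ B.F i) _ _ (Nat.le_add_left (m + 1) n) _).symm]
    exact ((Nat.decreasingInduction_succ (motive := fun i _ => A.F i ≅ B.F i) (fun i _ y => res i y) (G (m + 1))
      (Nat.le_add_left m n) _).trans (congrArg (fun y => Nat.decreasingInduction (motive := fun i _ => A.F i ≅ B.F i)
        (fun i _ y => res i y) y (Nat.le_add_left m n)) (hup m (G m)))).symm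
  have hc : ∀ m, (Scheme.Modules.pullback (𝔛.ι m)).map (a (m + 1)).hom ≫ (B.e m).hom = (A.e m).hom ≫ (a m).hom :=
    fun m => by
      rw [hres m]
      simp [res]
  refine ⟨⟨⟨fun m => (a m).hom, hc⟩, ⟨fun m => (a m).inv, fun m => ?_⟩,
    FSch.ModSys.Hom.ext (funext fun m => (a m).hom_inv_id), FSch.ModSys.Hom.ext (funext fun m => (a m).inv_hom_id)⟩⟩
  rw [← cancel_mono (a m).hom, Category.assoc, Category.assoc, Iso.inv_hom_id, Category.comp_id, ← hc,
    ← Functor.map_comp_assoc, Iso.inv_hom_id, CategoryTheory.Functor.map_id, Category.id_comp]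

theorem isFinLocFree_of_isInvertible {W : Scheme.{u}} {L : W.Modules} (h : PicF.IsInvertible L) :
    FlatMod.IsFinLocFree L := fun x =>
  let ⟨U, hxU, e⟩ := H22Alg.PB.rank_one_of_isInvertible h x
  ⟨U, 1, hxU, e⟩

variable {X : Scheme.{u}} (J : X.IdealSheafData)

theorem sq_le (q : ℕ) : J ^ (q + 1) * J ^ (q + 1) ≤ J ^ (q + 2) := by
  rw [← pow_add]
  exact pow_le_pow_right_of_le_one' le_top (by omega)

/-- Isomorphisms of pullbacks lift along the transition maps of the levels of a neighbourhood. -/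
theorem liftsIso_level (U : X.Opens) (hU : (J.support : Set X) ⊆ (U : Set X)) (q : ℕ)
    (h1 : Subsingleton (Coh.HH X (kernel (Lef.quotMap (Lef.pow_succ_le J q))) 1)) :
    LiftsIso ((FSch.completionAlong (U : Scheme.{u}) (J.comap U.ι)).ι q) := by
  obtain ⟨c, hc, hcι⟩ := H11LefFEt.Transfer.exists_levelIso J U hU (q + 1)
  obtain ⟨d, hd, hdι⟩ := H11LefFEt.Transfer.exists_levelIso J U hU q
  haveI := hc
  haveI := hd
  show LiftsIso (Scheme.IdealSheafData.inclusion (Lef.pow_succ_le (J.comap U.ι) q))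
  exact ((step _ (sq_le J q)).2 h1).of_square c d
    (H11LefFEt.Transfer.level_square (Lef.pow_succ_le J q) (Lef.pow_succ_le (J.comap U.ι) q) hcι hdι)

/-- An invertible module on a neighbourhood is determined by its restriction to a level. -/
theorem iso_of_level [IsLocallyNoetherian X] (hLef : Lef.LefCond X J) {p n : ℕ} (hn : p ≤ n)
    (hH1 : ∀ q, p ≤ q → Subsingleton (Coh.HH X (kernel (Lef.quotMap (Lef.pow_succ_le J q))) 1))
    (U : X.Opens) (hU : (J.support : Set X) ⊆ (U : Set X)) (L L' : (U : Scheme.{u}).Modules)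
    (hL : PicF.IsInvertible L) (hL' : PicF.IsInvertible L')
    (e : (Scheme.Modules.pullback ((J.comap U.ι) ^ (n + 1)).subschemeι).obj L ≅
      (Scheme.Modules.pullback ((J.comap U.ι) ^ (n + 1)).subschemeι).obj L') : Nonempty (L ≅ L') := by
  obtain ⟨a⟩ := nonempty_iso_of_level (FSch.completionMod (J.comap U.ι) L) (FSch.completionMod (J.comap U.ι) L') n e
    fun m hm y => (liftsIso_level J U hU m (hH1 m (hn.trans hm))).exists_lift
      (PicLoc.isInvertible_pullback _ hL) (PicLoc.isInvertible_pullback _ hL') y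
  exact HomBij.nonempty_iso (J.comap U.ι) L L' (isFinLocFree_of_isInvertible hL) (isFinLocFree_of_isInvertible hL')
    (hLef U hU) a

/-- An invertible module on a neighbourhood with trivial restriction to a level of `X` is trivial. -/
theorem trivial_of_level [IsLocallyNoetherian X] (hLef : Lef.LefCond X J) {p n : ℕ} (hn : p ≤ n)
    (hH1 : ∀ q, p ≤ q → Subsingleton (Coh.HH X (kernel (Lef.quotMap (Lef.pow_succ_le J q))) 1))
    (U : X.Opens) (hU : (J.support : Set X) ⊆ (U : Set X)) {L : (U : Scheme.{u}).Modules}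
    (hL : PicF.IsInvertible L) {g : (J ^ (n + 1)).subscheme ⟶ U} (hg : g ≫ U.ι = (J ^ (n + 1)).subschemeι)
    (e : Nonempty ((Scheme.Modules.pullback g).obj L ≅ Coh.structureModule _)) :
    Nonempty (L ≅ Coh.structureModule _) := by
  obtain ⟨c, -, hc⟩ := H11LefFEt.Transfer.exists_levelIso J U hU n
  have hι : ((J.comap U.ι) ^ (n + 1)).subschemeι = c ≫ g := by
    rw [← cancel_mono U.ι, Category.assoc, hg, hc]
  have h1 : PicF.pullCl ((J.comap U.ι) ^ (n + 1)).subschemeι (PicF.cl L) =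
      PicF.pullCl ((J.comap U.ι) ^ (n + 1)).subschemeι (PicF.cl (Coh.structureModule _)) := by
    rw [hι, PicLoc.pullCl_comp, PicLoc.pullCl_comp,
      show PicF.pullCl g (PicF.cl L) = PicF.cl (Coh.structureModule _) from Quot.sound e,
      show PicF.pullCl g (PicF.cl (Coh.structureModule _)) = PicF.cl (Coh.structureModule _) from
        Quot.sound ⟨PicLoc.pullbackStructureIso g⟩]
  obtain ⟨e'⟩ := H27Perf.Tower.iso_of_cl_eq h1
  exact iso_of_level J hLef hn hH1 U hU L _ hL (PicLoc.isInvertible_structureModule _) e'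

theorem nat_rec_exists {P : ℕ → Type*} {R : ∀ k, P k → P (k + 1) → Prop} (x : P 0)
    (h : ∀ k a, ∃ b, R k a b) : ∃ G : ∀ k, P k, G 0 = x ∧ ∀ k, R k (G k) (G (k + 1)) := by
  choose f hf using h
  exact ⟨fun k => Nat.rec x f k, rfl, fun k => hf k _⟩

/-- An invertible module on a level extends to a system of invertible modules. -/
theorem exists_system {p n : ℕ} (hn : p ≤ n)
    (hH2 : ∀ q, p ≤ q → Subsingleton (Coh.HH X (kernel (Lef.quotMap (Lef.pow_succ_le J q))) 2))
    (N : ((J ^ (n + 1)).subscheme).Modules) (hN : PicF.IsInvertible N) :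
    ∃ M : FSch.ModSys (FSch.completionAlong X J), (∀ m, PicF.IsInvertible (M.F m)) ∧ Nonempty (M.F n ≅ N) := by
  let P : ℕ → Type (u + 1) := fun k => {G : ((J ^ (n + k + 1)).subscheme).Modules // PicF.IsInvertible G}
  obtain ⟨G, hG0, hG⟩ := nat_rec_exists (P := P)
    (R := fun k a b => PicF.pullCl (Scheme.IdealSheafData.inclusion (Lef.pow_succ_le J (n + k))) (PicF.cl b.1) =
      PicF.cl a.1) ⟨N, hN⟩ fun k a => by
      obtain ⟨M, hM, e⟩ := (step _ (sq_le J (n + k))).1 (hH2 _ (hn.trans (Nat.le_add_right n k))) a.1 a.2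
      exact ⟨⟨M, hM⟩, Quot.sound e⟩
  have hle : ∀ m k : ℕ, m ≤ k → J ^ (k + 1) ≤ J ^ (m + 1) := fun m k h =>
    pow_le_pow_right_of_le_one' le_top (by omega)
  let F : ∀ m, ((J ^ (m + 1)).subscheme).Modules := fun m =>
    (Scheme.Modules.pullback (Scheme.IdealSheafData.inclusion (hle m (n + m) (Nat.le_add_left m n)))).obj (G m).1
  have hF : ∀ m, Nonempty ((Scheme.Modules.pullback ((FSch.completionAlong X J).ι m)).obj (F (m + 1)) ≅ F m) :=
    fun m => H27Perf.Tower.iso_of_cl_eq (by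
      show PicF.pullCl (Scheme.IdealSheafData.inclusion (Lef.pow_succ_le J m))
          (PicF.pullCl (Scheme.IdealSheafData.inclusion (hle (m + 1) (n + (m + 1)) (Nat.le_add_left _ n)))
            (PicF.cl (G (m + 1)).1)) =
        PicF.pullCl (Scheme.IdealSheafData.inclusion (hle m (n + m) (Nat.le_add_left m n))) (PicF.cl (G m).1)
      rw [← hG m, ← PicLoc.pullCl_comp, ← PicLoc.pullCl_comp, Scheme.IdealSheafData.inclusion_comp,
        Scheme.IdealSheafData.inclusion_comp])
  refine ⟨⟨F, fun m => (hF m).some⟩, fun m => PicLoc.isInvertible_pullback _ (G m).2,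
    H27Perf.Tower.iso_of_cl_eq ?_⟩
  have key : ∀ k, PicF.pullCl (Scheme.IdealSheafData.inclusion (hle n (n + k) (Nat.le_add_right n k)))
      (PicF.cl (G k).1) = PicF.cl N := by
    intro k
    induction k with
    | zero =>
      rw [hG0]
      exact (congrArg (fun f => PicF.pullCl f (PicF.cl N))
        (Scheme.IdealSheafData.inclusion_id (J ^ (n + 1)))).trans (PicLoc.pullCl_id _)
    | succ k ih =>
      rw [← hG k, ← PicLoc.pullCl_comp, Scheme.IdealSheafData.inclusion_comp] at ih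
      exact ih
  exact key n

/-- A pullback of a module is invertible when it is free of rank one near the image. -/
theorem isInvertible_pullback_of {T W : Scheme.{u}} (g : T ⟶ W) (E : W.Modules)
    (h : ∀ t, ∃ O : W.Opens, g t ∈ O ∧ Nonempty (E.restrict O.ι ≅ Coh.structureModule ↑O)) :
    PicF.IsInvertible ((Scheme.Modules.pullback g).obj E) := fun t => by
  obtain ⟨O, ht, ⟨e⟩⟩ := h t
  exact ⟨g ⁻¹ᵁ O, ht, ⟨(H16Derived.KFlat.Stalk.pullbackRestrictIso g O).app E ≪≫
    (Scheme.Modules.pullback (g ∣_ O)).mapIso e ≪≫ PicLoc.pullbackStructureIso _⟩⟩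

/-- A finite locally free module with invertible pullback is free of rank one near the image. -/
theorem exists_rank_one {T W : Scheme.{u}} (g : T ⟶ W) {E : W.Modules} (hE : FlatMod.IsFinLocFree E)
    (hgE : PicF.IsInvertible ((Scheme.Modules.pullback g).obj E)) (t : T) :
    ∃ O : W.Opens, g t ∈ O ∧ Nonempty (E.restrict O.ι ≅ Coh.structureModule ↑O) := by
  obtain ⟨O, r, ht, ⟨e⟩⟩ := hE (g t)
  let T' : T.Opens := g ⁻¹ᵁ O
  haveI : Nonempty (T' : Scheme.{u}) := ⟨⟨t, ht⟩⟩
  have h2 : ((Scheme.Modules.pullback g).obj E).restrict T'.ι ≅ FlatMod.freeMod (↑T') r :=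
    (H16Derived.KFlat.Stalk.pullbackRestrictIso g O).app E ≪≫
      (Scheme.Modules.pullback (g ∣_ O)).mapIso e ≪≫ H16Derived.KFlat.Stalk.freeModPullbackIso (g ∣_ O) r
  have hr : r = 1 := by
    refine H17.CanonSm.rank_eq (X := (T' : Scheme.{u})) (E := FlatMod.freeMod _ r) (fun x => ⟨⊤, trivial, ?_⟩) ?_
    · exact ⟨H11Leff.topFree _ r⟩
    · exact H22Alg.PB.rank_one_of_isInvertible (H11Tilde.isInvertible_of_iso
        (((Scheme.Modules.restrictFunctorIsoPullback T'.ι).app _).symm ≪≫ h2) (PicLoc.isInvertible_pullback T'.ι hgE))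
  subst hr
  exact ⟨O, ht, ⟨e ≪≫ coproductUniqueIso fun _ : Fin 1 => Coh.structureModule (↑O : Scheme.{u})⟩⟩

/-- An invertible module on a level extends to a neighbourhood. -/
theorem exists_extension (hLeff : LefX.LeffCond X J) {p n : ℕ} (hn : p ≤ n)
    (hH2 : ∀ q, p ≤ q → Subsingleton (Coh.HH X (kernel (Lef.quotMap (Lef.pow_succ_le J q))) 2))
    (N : ((J ^ (n + 1)).subscheme).Modules) (hN : PicF.IsInvertible N) :
    ∃ (U : X.Opens) (L : (U : Scheme.{u}).Modules) (g : (J ^ (n + 1)).subscheme ⟶ U),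
      (J.support : Set X) ⊆ (U : Set X) ∧ g ≫ U.ι = (J ^ (n + 1)).subschemeι ∧ PicF.IsInvertible L ∧
        Nonempty ((Scheme.Modules.pullback g).obj L ≅ N) := by
  obtain ⟨M, hM, ⟨eN⟩⟩ := exists_system J hn hH2 N hN
  obtain ⟨U, E, hU, hE, ⟨a⟩⟩ := hLeff.2 M fun m => isFinLocFree_of_isInvertible (hM m)
  let ι := (J ^ (n + 1)).subschemeι
  have hran : Set.range ι = (J.support : Set X) := H05EGA4.LefConn.range_pow J n
  obtain ⟨g, hg⟩ : ∃ g : (J ^ (n + 1)).subscheme ⟶ U, g ≫ U.ι = ι :=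
    ⟨IsOpenImmersion.lift U.ι ι (by rw [Scheme.Opens.range_ι, hran]; exact hU), IsOpenImmersion.lift_fac _ _ _⟩
  have e1 : (Scheme.Modules.pullback g).obj E ≅ N :=
    (Scheme.Modules.pullback g).mapIso (asIso ((Scheme.Modules.pullbackPushforwardAdjunction U.ι).counit.app E)).symm ≪≫
      (Scheme.Modules.pullbackComp g U.ι).app _ ≪≫ (Scheme.Modules.pullbackCongr hg).app _ ≪≫
        ⟨a.hom.app n, a.inv.app n, congrArg (fun f : _ ⟶ _ => FSch.ModSys.Hom.app f n) a.hom_inv_id,
          congrArg (fun f : _ ⟶ _ => FSch.ModSys.Hom.app f n) a.inv_hom_id⟩ ≪≫ eN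
  have hgE : PicF.IsInvertible ((Scheme.Modules.pullback g).obj E) := H11Tilde.isInvertible_of_iso e1.symm hN
  let S : (U : Scheme.{u}).Opens := sSup {O | Nonempty (E.restrict O.ι ≅ Coh.structureModule ↑O)}
  let V : X.Opens := U.ι ''ᵁ S
  have hgS : ∀ t, g t ∈ S := fun t => by
    obtain ⟨O, ht, hO⟩ := exists_rank_one g hE hgE t
    exact Opens.mem_sSup.2 ⟨O, hO, ht⟩
  have hVU : V ≤ U := fun x ⟨z, _, hz⟩ => hz ▸ z.2
  have hYV : (J.support : Set X) ⊆ (V : Set X) := fun y hy => by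
    obtain ⟨t, ht⟩ := hran.ge hy
    exact ⟨g t, hgS t, by rw [← ht, ← hg]; rfl⟩
  obtain ⟨g', hg'⟩ : ∃ g' : (J ^ (n + 1)).subscheme ⟶ V, g' ≫ V.ι = ι :=
    ⟨IsOpenImmersion.lift V.ι ι (by rw [Scheme.Opens.range_ι, hran]; exact hYV), IsOpenImmersion.lift_fac _ _ _⟩
  have hgg : g' ≫ X.homOfLE hVU = g := by rw [← cancel_mono U.ι, Category.assoc, Scheme.homOfLE_ι, hg, hg']
  refine ⟨V, (Scheme.Modules.pullback (X.homOfLE hVU)).obj E, g', hYV, hg', ?_,
    ⟨(Scheme.Modules.pullbackComp g' (X.homOfLE hVU)).app _ ≪≫ (Scheme.Modules.pullbackCongr hgg).app _ ≪≫ e1⟩⟩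
  refine isInvertible_pullback_of _ E fun t => ?_
  obtain ⟨z, hz, hzt⟩ := t.2
  obtain ⟨O, hO, hzO⟩ := Opens.mem_sSup.1 hz
  have heq : X.homOfLE hVU t = z := U.ι.isOpenEmbedding.injective (by
    exact congr($(Scheme.homOfLE_ι X hVU).base t).trans hzt.symm)
  exact ⟨O, heq ▸ hzO, hO⟩

end Groth.Agent.H11Leff.PicSys
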