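import Groth.Agent.H23Para.PairStalks
import Groth.Agent.H11Leff.PicSys
import Groth.Prelude.Def_Formal2

/-!
# Picard groups and parafactorial complements
-/

set_option autoImplicit false
set_option linter.style.haveILetI false

universe u

open CategoryTheory CategoryTheory.Limits AlgebraicGeometry TopologicalSpace
open Groth.Agent

namespace Groth.Agent.H11Leff.PicPara

theorem cl_restrict {A B : Scheme.{u}} (f : A ⟶ B) [IsOpenImmersion f] (L : B.Modules) :
    PicF.cl (L.restrict f) = PicF.pullCl f (PicF.cl L) :=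
  Quot.sound ⟨(Scheme.Modules.restrictFunctorIsoPullback f).app L⟩

theorem pullCl_structure {A B : Scheme.{u}} (f : A ⟶ B) :
    PicF.pullCl f (PicF.cl (Coh.structureModule B)) = PicF.cl (Coh.structureModule A) :=
  Quot.sound ⟨PicLoc.pullbackStructureIso f⟩

/-- Restriction of invertible modules to an open with parafactorial complement. -/
theorem bijective_restrict {X : Scheme.{u}} [IsLocallyNoetherian X] (U : X.Opens)
    (hpara : ∀ x : X, x ∉ U → ParaF.IsParafactorialLocalRing (X.presheaf.stalk x)) :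
    Formal2.PicPullbackInjective U.ι ∧ Formal2.PicPullbackSurjective U.ι := by
  let Y : Closeds X := ⟨(U : Set X)ᶜ, U.2.isClosed_compl⟩
  have hY : Y.compl = U := Opens.ext (compl_compl _)
  let j := X.homOfLE (inf_le_left : (⊤ : X.Opens) ⊓ Y.compl ≤ ⊤)
  obtain ⟨hff, hes⟩ := ((H23Para.pair_iff_stalks Y).2 fun x hx => hpara x hx) ⊤
  let c := X.homOfLE (show (⊤ : X.Opens) ⊓ Y.compl ≤ U from hY ▸ inf_le_right)
  let c' := X.homOfLE (show U ≤ (⊤ : X.Opens) ⊓ Y.compl from hY.symm ▸ le_inf le_top le_rfl)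
  have hc : j ≫ X.topIso.hom = c ≫ U.ι := by simp [j, c]
  have hc' : c' ≫ j = U.ι ≫ X.topIso.inv := by
    rw [← cancel_mono X.topIso.hom]
    simp [c', j]
  have hcc : c' ≫ c = 𝟙 _ := by rw [← cancel_mono U.ι]; simp [c, c']
  refine ⟨fun L hL e => ?_, fun N hN => ?_⟩
  · let L₂ := L.restrict X.topIso.hom
    have hL₂ : PicF.IsInvertible L₂ := H23Para.isInvertible_restrict _ hL
    let O₂ := Coh.structureModule (↑(⊤ : X.Opens) : Scheme.{u})
    have hO₂ : PicF.IsInvertible O₂ := PicLoc.isInvertible_structureModule _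
    have h1 : PicF.cl (L₂.restrict j) = PicF.cl (O₂.restrict j) := by
      rw [cl_restrict, cl_restrict, cl_restrict, ← PicLoc.pullCl_comp, hc, PicLoc.pullCl_comp,
        show PicF.pullCl U.ι (PicF.cl L) = PicF.cl (Coh.structureModule _) from Quot.sound e, pullCl_structure,
        pullCl_structure]
    obtain ⟨a⟩ := H27Perf.Tower.iso_of_cl_eq h1
    obtain ⟨φ, hφ⟩ := (hff L₂ O₂ hL₂ hO₂).2 a.hom
    obtain ⟨ψ, hψ⟩ := (hff O₂ L₂ hO₂ hL₂).2 a.inv
    have b : L₂ ≅ O₂ :=
      ⟨φ, ψ, (hff L₂ L₂ hL₂ hL₂).1 (by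
          show (Scheme.Modules.restrictFunctor j).map (φ ≫ ψ) = (Scheme.Modules.restrictFunctor j).map (𝟙 L₂)
          rw [Functor.map_comp, CategoryTheory.Functor.map_id]
          exact (congrArg₂ (· ≫ ·) hφ hψ).trans a.hom_inv_id),
        (hff O₂ O₂ hO₂ hO₂).1 (by
          show (Scheme.Modules.restrictFunctor j).map (ψ ≫ φ) = (Scheme.Modules.restrictFunctor j).map (𝟙 O₂)
          rw [Functor.map_comp, CategoryTheory.Functor.map_id]
          exact (congrArg₂ (· ≫ ·) hψ hφ).trans a.inv_hom_id)⟩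
    refine H27Perf.Tower.iso_of_cl_eq ?_
    have hb : PicF.cl L₂ = PicF.cl O₂ := Quot.sound ⟨b⟩
    have h2 := congrArg (PicF.pullCl X.topIso.inv) hb
    rwa [cl_restrict, ← PicLoc.pullCl_comp, X.topIso.inv_hom_id, PicLoc.pullCl_id, pullCl_structure] at h2
  · obtain ⟨L, hL, ⟨a⟩⟩ := hes ((Scheme.Modules.pullback c).obj N) (PicLoc.isInvertible_pullback c hN)
    refine ⟨(Scheme.Modules.pullback X.topIso.inv).obj L, PicLoc.isInvertible_pullback _ hL,
      H27Perf.Tower.iso_of_cl_eq ?_⟩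
    show PicF.pullCl U.ι (PicF.pullCl X.topIso.inv (PicF.cl L)) = _
    rw [← PicLoc.pullCl_comp, ← hc', PicLoc.pullCl_comp, ← cl_restrict,
      show PicF.cl (L.restrict j) = PicF.pullCl c (PicF.cl N) from Quot.sound ⟨a⟩, ← PicLoc.pullCl_comp, hcc,
      PicLoc.pullCl_id]

variable {X : Scheme.{u}} [IsLocallyNoetherian X] (J : X.IdealSheafData)

/-- The Picard groups of the space and of a thick level agree. -/
theorem bijective_level (hLeff : LefX.LeffCond X J) {p n : ℕ} (hn : p ≤ n)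
    (h12 : ∀ q, p ≤ q → ∀ i : ℕ, (i = 1 ∨ i = 2) → Subsingleton (Coh.HH X (kernel (Lef.quotMap (Lef.pow_succ_le J q))) i))
    (hpara : ∀ V : X.Opens, (J.support : Set X) ⊆ (V : Set X) → ∀ x : X, x ∉ V →
      ParaF.IsParafactorialLocalRing (X.presheaf.stalk x)) :
    Formal2.PicPullbackInjective (J ^ (n + 1)).subschemeι ∧ Formal2.PicPullbackSurjective (J ^ (n + 1)).subschemeι := by
  refine ⟨fun L hL e => ?_, fun N hN => ?_⟩
  · have htop : (J.support : Set X) ⊆ ((⊤ : X.Opens) : Set X) := fun _ _ => trivial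
    let g := (J ^ (n + 1)).subschemeι ≫ X.topIso.inv
    have hg : g ≫ (⊤ : X.Opens).ι = (J ^ (n + 1)).subschemeι := by simp [g]
    have h := PicSys.trivial_of_level J hLeff.1 hn (fun q hq => h12 q hq 1 (Or.inl rfl)) ⊤ htop
      (L := (Scheme.Modules.pullback (⊤ : X.Opens).ι).obj L) (PicLoc.isInvertible_pullback _ hL) hg
      (H27Perf.Tower.iso_of_cl_eq (by
        show PicF.pullCl g (PicF.pullCl (⊤ : X.Opens).ι (PicF.cl L)) = _
        rw [← PicLoc.pullCl_comp, hg]
        exact Quot.sound e))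
    exact (bijective_restrict ⊤ (fun x hx => (hx trivial).elim)).1 L hL h
  · obtain ⟨V, L, g, hV, hg, hL, ⟨e⟩⟩ := PicSys.exists_extension J hLeff hn (fun q hq => h12 q hq 2 (Or.inr rfl)) N hN
    obtain ⟨L', hL', ⟨e'⟩⟩ := (bijective_restrict V (hpara V hV)).2 L hL
    refine ⟨L', hL', H27Perf.Tower.iso_of_cl_eq ?_⟩
    show PicF.pullCl _ (PicF.cl L') = _
    rw [← hg, PicLoc.pullCl_comp, show PicF.pullCl V.ι (PicF.cl L') = PicF.cl L from Quot.sound ⟨e'⟩]
    exact Quot.sound ⟨e⟩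

/-- The same on a neighbourhood. -/
theorem bijective_level_nhd (hLeff : LefX.LeffCond X J) {p n : ℕ} (hn : p ≤ n)
    (h12 : ∀ q, p ≤ q → ∀ i : ℕ, (i = 1 ∨ i = 2) → Subsingleton (Coh.HH X (kernel (Lef.quotMap (Lef.pow_succ_le J q))) i))
    (hpara : ∀ V : X.Opens, (J.support : Set X) ⊆ (V : Set X) → ∀ x : X, x ∉ V →
      ParaF.IsParafactorialLocalRing (X.presheaf.stalk x))
    (U : X.Opens) (hU : (J.support : Set X) ⊆ (U : Set X)) :
    Formal2.PicPullbackInjective ((J.comap U.ι) ^ (n + 1)).subschemeι ∧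
      Formal2.PicPullbackSurjective ((J.comap U.ι) ^ (n + 1)).subschemeι := by
  obtain ⟨c, hc, hcι⟩ := H11LefFEt.Transfer.exists_levelIso J U hU n
  haveI := hc
  refine ⟨fun L hL e => ?_, fun N hN => ?_⟩
  · let g := inv c ≫ ((J.comap U.ι) ^ (n + 1)).subschemeι
    have hg : g ≫ U.ι = (J ^ (n + 1)).subschemeι := by
      rw [Category.assoc, ← hcι, IsIso.inv_hom_id_assoc]
    refine PicSys.trivial_of_level J hLeff.1 hn (fun q hq => h12 q hq 1 (Or.inl rfl)) U hU hL hg
      (H27Perf.Tower.iso_of_cl_eq ?_)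
    show PicF.pullCl g (PicF.cl L) = _
    rw [PicLoc.pullCl_comp, show PicF.pullCl ((J.comap U.ι) ^ (n + 1)).subschemeι (PicF.cl L) =
      PicF.cl (Coh.structureModule _) from Quot.sound e, pullCl_structure]
  · obtain ⟨L, hL, ⟨a⟩⟩ := (bijective_level J hLeff hn h12 hpara).2 ((Scheme.Modules.pullback (inv c)).obj N)
      (PicLoc.isInvertible_pullback _ hN)
    refine ⟨(Scheme.Modules.pullback U.ι).obj L, PicLoc.isInvertible_pullback _ hL, H27Perf.Tower.iso_of_cl_eq ?_⟩
    show PicF.pullCl ((J.comap U.ι) ^ (n + 1)).subschemeι (PicF.pullCl U.ι (PicF.cl L)) = _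
    rw [← PicLoc.pullCl_comp, ← hcι, PicLoc.pullCl_comp,
      show PicF.pullCl (J ^ (n + 1)).subschemeι (PicF.cl L) = PicF.pullCl (inv c) (PicF.cl N) from Quot.sound ⟨a⟩,
      ← PicLoc.pullCl_comp, IsIso.hom_inv_id, PicLoc.pullCl_id]

end Groth.Agent.H11Leff.PicPara
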