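import Groth.Agent.H26Def.PicSeq
import Groth.Agent.H17.OmegaLocal
import Groth.Agent.H7Flat.CohDim.H1
import Groth.Agent.H24FSch.Kernels
import Groth.Agent.H10Coh.SerreVanishing
import Groth.Agent.LeadBC.GenBC.AppIsoApps
import Groth.Agent.H28Vert.VertGroup
import Groth.Agent.H26Theta.Scalar
import Groth.Agent.H27Perf.Tower
import Groth.Prelude.Def_Lef

/-!
# Picard groups of a square-zero step between closed subschemes
-/

set_option autoImplicit false
set_option linter.style.haveILetI false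

universe u

open CategoryTheory CategoryTheory.Limits AlgebraicGeometry TopologicalSpace Opposite
open Groth.Agent Groth.Agent.H17.ExtRegVanish

namespace Groth.Agent.H11Leff.PicStep

variable {X : Scheme.{u}}

theorem nonempty_kernel_iso {W Z : Scheme.{u}} {g : W ⟶ X} {t : W ⟶ Z} [IsIso t] {s : Z ⟶ X}
    (h : g = t ≫ s) : Nonempty (kernel (ClSub.unitToPush g) ≅ kernel (ClSub.unitToPush s)) := by
  subst h
  haveI : IsIso (ClSub.unitToPush t) := LeadBC.GenBC.isIso_unitToPush_of_app t fun U => inferInstance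
  exact ⟨kernelIsoOfEq (H17.OmegaAffine.unitToPush_comp t s) ≪≫ kernelCompMono _ _⟩

theorem mul_ker_inclusion {I J : X.IdealSheafData} (h : I ≤ J) (h2 : J * J ≤ I) :
    (Scheme.IdealSheafData.inclusion h).ker * (Scheme.IdealSheafData.inclusion h).ker = ⊥ := by
  rw [H24FSch.ker_inclusion, ← H29Blow.comap_mul, eq_bot_iff]
  refine (Scheme.IdealSheafData.comap_mono _ h2).trans (le_of_eq ?_)
  have := H24FSch.comap_ker_self I.subschemeι
  rwa [I.ker_subschemeι] at this

theorem subsingleton_HH {I J : X.IdealSheafData} (h : I ≤ J) {i : ℕ}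
    (hi : Subsingleton (Coh.HH X (kernel (Lef.quotMap h)) i)) :
    Subsingleton (Coh.HH I.subscheme (ClSub.idealMod (Scheme.IdealSheafData.inclusion h).ker) i) := by
  let g := Scheme.IdealSheafData.inclusion h
  let F := Scheme.Modules.pushforward I.subschemeι
  haveI : (ClSub.idealMod g.ker).IsQuasicoherent := H17.OmegaLocal.isQuasicoherent_idealMod _
  haveI : F.IsRightAdjoint := (Scheme.Modules.pullbackPushforwardAdjunction I.subschemeι).isRightAdjoint
  obtain ⟨e1⟩ := nonempty_kernel_iso g.toImage_imageι.symm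
  let e : kernel (Lef.quotMap h) ≅ F.obj (ClSub.idealMod g.ker) :=
    kernelCompMono _ _ ≪≫ (PreservesKernel.iso F (ClSub.unitToPush g)).symm ≪≫ F.mapIso e1
  refine (H7Flat.CohDim.lerayHH I.subschemeι (ClSub.idealMod g.ker) i).toEquiv.subsingleton_congr.1 ?_
  refine (H10Coh.HHEquiv _ i).toEquiv.subsingleton_congr.2 ?_
  exact H10Coh.Tw.subsingleton_of_iso e ((H10Coh.HHEquiv _ i).toEquiv.subsingleton_congr.1 hi)

section Closed

variable (K : X.IdealSheafData)

theorem closed_step (hK : K * K = ⊥) :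
    (Subsingleton (Coh.HH X (ClSub.idealMod K) 2) → ∀ d : PicLoc.PicSet K.subscheme,
      ∃ c : PicLoc.PicSet X, PicF.pullCl K.subschemeι c.1 = d.1) ∧
    (Subsingleton (Coh.HH X (ClSub.idealMod K) 1) →
      (∀ c c' : PicLoc.PicSet X, PicF.pullCl K.subschemeι c.1 = PicF.pullCl K.subschemeι c'.1 → c = c') ∧
      ∀ v : (Γ(K.subscheme, ⊤))ˣ, ∃ w : (Γ(X, ⊤))ˣ, K.subschemeι.appTop w.1 = v.1) := by
  letI := H28Vert.picLaw X
  letI := H28Vert.picLaw K.subscheme
  let hi : PicGrp.PullMul K.subschemeι := H28Vert.pullMul _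
  obtain ⟨ε, δ₀, α, δ₁, -, -, hδ₀, -, hpull, hδ₁⟩ := H26Def.PicSeq.exists_seq X K hK hi
  refine ⟨fun h2 d => ?_, fun h1 => ⟨fun c c' h => ?_, fun v => ?_⟩⟩
  · haveI := h2
    have hd : d ∈ δ₁.ker := MonoidHom.mem_ker.2 (Multiplicative.toAdd.injective (Subsingleton.elim _ _))
    rw [hδ₁] at hd
    obtain ⟨c, hc⟩ := hd
    exact ⟨c, congrArg Subtype.val hc⟩
  · haveI := h1
    have hp : PicGrp.pullHom K.subschemeι hi c = PicGrp.pullHom K.subschemeι hi c' := Subtype.ext h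
    have hc : c / c' ∈ (PicGrp.pullHom K.subschemeι hi).ker := by
      rw [MonoidHom.mem_ker, map_div, hp, div_self']
    rw [hpull] at hc
    obtain ⟨a, ha⟩ := hc
    rw [show a = 1 from Multiplicative.toAdd.injective (Subsingleton.elim _ _), map_one] at ha
    exact div_eq_one.1 ha.symm
  · haveI := h1
    have hv : v ∈ δ₀.ker := MonoidHom.mem_ker.2 (Multiplicative.toAdd.injective (Subsingleton.elim _ _))
    rw [hδ₀] at hv
    obtain ⟨w, hw⟩ := hv
    exact ⟨w, congrArg Units.val hw⟩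

end Closed

theorem isIso_mulEnd {W : Scheme.{u}} (M : W.Modules) (v : (Γ(W, ⊤))ˣ) : IsIso (mulEnd v.1 M) := by
  have key : ∀ r s : Γ(W, ⊤), r * s = 1 → mulEnd r M ≫ mulEnd s M = 𝟙 M := fun r s h => by
    refine Scheme.Modules.hom_ext _ _ fun U => ?_
    ext m
    show res U s • (res U r • m) = m
    rw [smul_smul, show res U s * res U r = res U (s * r) from (map_mul _ _ _).symm, mul_comm, h,
      show res U (1 : Γ(W, ⊤)) = 1 from map_one _, one_smul]
  exact ⟨mulEnd v⁻¹.1 M, key _ _ v.mul_inv, key _ _ v.inv_mul⟩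

/-- Injectivity on Picard groups and surjectivity on units. -/
def LiftsIso {W Z : Scheme.{u}} (g : W ⟶ Z) : Prop :=
  (∀ c c' : PicLoc.PicSet Z, PicF.pullCl g c.1 = PicF.pullCl g c'.1 → c = c') ∧
    ∀ v : (Γ(W, ⊤))ˣ, ∃ w : (Γ(Z, ⊤))ˣ, g.appTop w.1 = v.1

theorem exists_unit {W W' : Scheme.{u}} (t : W ⟶ W') [IsIso t] (v : (Γ(W, ⊤))ˣ) :
    ∃ x : (Γ(W', ⊤))ˣ, t.appTop x.1 = v.1 := by
  haveI : IsIso t.appTop := inferInstanceAs (IsIso (t.app ⊤))
  have hb : Function.Bijective t.appTop := ConcreteCategory.bijective_of_isIso _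
  obtain ⟨x, hx⟩ := hb.2 v.1
  obtain ⟨y, hy⟩ := hb.2 v.inv
  exact ⟨⟨x, y, hb.1 (by rw [map_mul, hx, hy, v.val_inv, map_one]),
    hb.1 (by rw [map_mul, hx, hy, v.inv_val, map_one])⟩, hx⟩

/-- The lifting property is invariant under isomorphisms of the source and the target. -/
theorem LiftsIso.of_square {W Z W' Z' : Scheme.{u}} {g : W ⟶ Z} (hg : LiftsIso g) {g' : W' ⟶ Z'}
    (c : Z' ⟶ Z) (d : W' ⟶ W) [IsIso c] [IsIso d] (h : d ≫ g = g' ≫ c) : LiftsIso g' := by
  have hsq : g ≫ inv c = inv d ≫ g' := by rw [IsIso.comp_inv_eq, Category.assoc, ← h, IsIso.inv_hom_id_assoc]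
  refine ⟨fun a b hab => ?_, fun v => ?_⟩
  · have hb := hg.1 ⟨PicF.pullCl (inv c) a.1, PicLoc.isInvertibleCl_pullCl _ a.2⟩
      ⟨PicF.pullCl (inv c) b.1, PicLoc.isInvertibleCl_pullCl _ b.2⟩ (by
        rw [← PicLoc.pullCl_comp, ← PicLoc.pullCl_comp, hsq, PicLoc.pullCl_comp, PicLoc.pullCl_comp, hab])
    have := congrArg (fun z => PicF.pullCl c z.1) hb
    simp only [← PicLoc.pullCl_comp, IsIso.hom_inv_id, PicLoc.pullCl_id] at this
    exact Subtype.ext this
  · obtain ⟨x, hx⟩ := exists_unit d v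
    obtain ⟨w, hw⟩ := hg.2 x
    refine ⟨Units.map c.appTop.hom.toMonoidHom w, ?_⟩
    show g'.appTop (c.appTop w.1) = _
    rw [show g'.appTop (c.appTop w.1) = (g' ≫ c).appTop w.1 from rfl, ← h, Scheme.Hom.comp_appTop, ← hx, ← hw]
    rfl

theorem LiftsIso.exists_lift {W Z : Scheme.{u}} {g : W ⟶ Z} (hg : LiftsIso g) {L L' : Z.Modules}
    (hL : PicF.IsInvertible L) (hL' : PicF.IsInvertible L')
    (e : (Scheme.Modules.pullback g).obj L ≅ (Scheme.Modules.pullback g).obj L') :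
    ∃ e' : L ≅ L', (Scheme.Modules.pullback g).mapIso e' = e := by
  let P := Scheme.Modules.pullback g
  obtain ⟨e₀⟩ := H27Perf.Tower.iso_of_cl_eq (congrArg Subtype.val
    (hg.1 (PicGrp.cls L hL) (PicGrp.cls L' hL') (Quot.sound ⟨e⟩)))
  let a : P.obj L ≅ P.obj L := e ≪≫ (P.mapIso e₀).symm
  have hPL : PicF.IsInvertible (P.obj L) := PicLoc.isInvertible_pullback g hL
  obtain ⟨r, hr⟩ := H26Theta.exists_mulEnd_eq hPL a.hom
  obtain ⟨r', hr'⟩ := H26Theta.exists_mulEnd_eq hPL a.inv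
  have hu : r * r' = 1 := H26Theta.mulEnd_injective hPL (by
    rw [H26Theta.mulEnd_one, ← a.hom_inv_id, hr, hr']
    refine Scheme.Modules.hom_ext _ _ fun U => ?_
    ext m
    show res U (r * r') • m = res U r' • (res U r • m)
    rw [smul_smul, show res U (r * r') = res U r * res U r' from map_mul _ _ _, mul_comm])
  obtain ⟨w, hw⟩ := hg.2 ⟨r, r', hu, by rw [mul_comm, hu]⟩
  haveI := isIso_mulEnd L w
  refine ⟨asIso (mulEnd w.1 L) ≪≫ e₀, Iso.ext ?_⟩
  show P.map (mulEnd w.1 L ≫ e₀.hom) = e.hom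
  rw [Functor.map_comp, H26Theta.pullback_map_mulEnd, hw, ← hr]
  simp [a]
  exact Category.comp_id _

/-- The step of a square-zero inclusion of closed subschemes. -/
theorem step {I J : X.IdealSheafData} (h : I ≤ J) (hJ : J * J ≤ I) :
    (Subsingleton (Coh.HH X (kernel (Lef.quotMap h)) 2) →
      ∀ N : J.subscheme.Modules, PicF.IsInvertible N → ∃ M : I.subscheme.Modules, PicF.IsInvertible M ∧
        Nonempty ((Scheme.Modules.pullback (Scheme.IdealSheafData.inclusion h)).obj M ≅ N)) ∧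
    (Subsingleton (Coh.HH X (kernel (Lef.quotMap h)) 1) → LiftsIso (Scheme.IdealSheafData.inclusion h)) := by
  let g := Scheme.IdealSheafData.inclusion h
  let s := g.ker.subschemeι
  let t := g.toImage
  have hts : g = t ≫ s := g.toImage_imageι.symm
  obtain ⟨hsur, hinj⟩ := closed_step g.ker (mul_ker_inclusion h hJ)
  refine ⟨fun h2 N hN => ?_, fun h1 => LiftsIso.of_square (g := s) (hinj (subsingleton_HH h h1)) (𝟙 _) t ?_⟩
  · let d : PicLoc.PicSet g.ker.subscheme :=
      ⟨PicF.pullCl (inv t) (PicF.cl N), PicLoc.isInvertibleCl_pullCl _ ⟨N, rfl, hN⟩⟩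
    obtain ⟨c, hc⟩ := hsur (subsingleton_HH h h2) d
    obtain ⟨M, hM, rfl⟩ := PicGrp.exists_eq_cls c
    refine ⟨M, hM, H27Perf.Tower.iso_of_cl_eq ?_⟩
    show PicF.pullCl g (PicF.cl M) = _
    rw [hts, PicLoc.pullCl_comp, show PicF.pullCl s (PicF.cl M) = _ from hc, ← PicLoc.pullCl_comp,
      IsIso.hom_inv_id, PicLoc.pullCl_id]
  · rw [Category.comp_id]
    exact hts.symm

end Groth.Agent.H11Leff.PicStep
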