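import Groth.Agent.H11Leff.FreeNhd
import Groth.Agent.H11LefFEt.LefPunct
import Groth.Agent.H11LefFEt.Principal
import Groth.Agent.H24Depth2.Wrap
import Groth.Agent.H29Blow.Stalk
import Groth.Agent.H4Depth.DepthHom
import Groth.Agent.H8Props.FinLocFree.Global
import Groth.Agent.H4DualSch.Basic
import Groth.Agent.H29Ref.Generic

/-!
# The effective Lefschetz condition on a punctured spectrum
-/

set_option autoImplicit false
set_option linter.style.haveILetI false
set_option backward.isDefEq.respectTransparency false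

universe u

open CategoryTheory CategoryTheory.Limits AlgebraicGeometry Opposite TopologicalSpace IsLocalRing

attribute [-instance] CategoryTheory.catToReflQuiver

namespace Groth.Agent.H11Leff

/-- In `R/(t^(N+1))` with `t` regular only multiples of `t` are killed by `t^N`. -/
theorem dvd_of_mul_pow_eq_zero {R S : Type u} [CommRing R] [CommRing S] (φ : R →+* S) (hφ : Function.Surjective φ)
    (t : R) (ht : t ∈ nonZeroDivisors R) (N : ℕ) (hker : RingHom.ker φ = Ideal.span {t ^ (N + 1)}) (r : S)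
    (hr : r * φ t ^ N = 0) : φ t ∣ r := by
  obtain ⟨a, rfl⟩ := hφ r
  have h : a * t ^ N ∈ Ideal.span {t ^ (N + 1)} := by
    rw [← hker, RingHom.mem_ker, map_mul, map_pow]
    exact hr
  obtain ⟨b, hb⟩ := Ideal.mem_span_singleton'.1 h
  have : a = b * t := (mem_nonZeroDivisors_iff_right.1 (pow_mem ht N) _ (by
    rw [sub_mul, ← hb, pow_succ']; ring) : a - b * t = 0) |> sub_eq_zero.1
  rw [this, map_mul]
  exact Dvd.intro_left _ rfl

section

variable (A : Type u) [CommRing A] [IsNoetherianRing A] [IsLocalRing A] (t : A)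

local notation "U" => FEt.puncturedSpec A

/-- `V(t)` in the punctured spectrum. -/
noncomputable abbrev jdl : (FEt.puncturedSpec A : Scheme.{u}).IdealSheafData :=
  (Spec.map (CommRingCat.ofHom (Ideal.Quotient.mk (Ideal.span {t})))).ker.comap (FEt.puncturedSpec A).ι

omit [IsNoetherianRing A] in
theorem ideal_jdl (k : ℕ) (V : (U : Scheme.{u}).affineOpens) :
    (jdl A t ^ k).ideal V =
      Ideal.span {H24Formal.scalA A (X := (U : Scheme.{u})) (V : (U : Scheme.{u}).Opens) t ^ k} := by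
  rw [H11LefFEt.Principal.ideal_pow_eq (X := (U : Scheme.{u})) t (jdl A t)
    (fun W => H11LefFEt.Principal.ideal_punctured t (FEt.puncturedSpec A) W) k V, map_pow]

omit [IsNoetherianRing A] in
theorem scalA_mem_nonZeroDivisors (hreg : IsSMulRegular A t) {V : (U : Scheme.{u}).Opens} (hV : IsAffineOpen V) :
    H24Formal.scalA A (X := (U : Scheme.{u})) V t ∈ nonZeroDivisors Γ((U : Scheme.{u}), V) := by
  let f : (U : Scheme.{u}) ⟶ Spec (CommRingCat.of A) := (FEt.puncturedSpec A).ι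
  have hfl : (f.appLE ⊤ V le_top).hom.Flat := f.flat_appLE (isAffineOpen_top _) hV le_top
  let φ : A →+* Γ((U : Scheme.{u}), V) := (f.appLE ⊤ V le_top).hom.comp (Scheme.ΓSpecIso (CommRingCat.of A)).inv.hom
  have hφ : φ.Flat := RingHom.Flat.comp (RingHom.Flat.of_bijective
    (ConcreteCategory.bijective_of_isIso (Scheme.ΓSpecIso (CommRingCat.of A)).inv)) hfl
  have ht : t ∈ nonZeroDivisors A := mem_nonZeroDivisors_iff_right.2 fun x hx =>
    hreg (show t • x = t • 0 by rw [smul_zero, smul_eq_mul, mul_comm, hx])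
  exact _root_.H29Blow.mem_nonZeroDivisors_map_of_flat hφ ht

set_option maxHeartbeats 1000000 in
/-- The regularity of `t` on the levels of a locally free system. -/
theorem kernel_eq_image (hreg : IsSMulRegular A t)
    (𝔐 : FSch.ModSys (FSch.completionAlong (U : Scheme.{u}) (jdl A t))) (hM : LefX.LevelwiseFinLocFree 𝔐) (N : ℕ) :
    kernelSubobject (Formal.smulModΓ (𝔐.F N)
        (((FSch.completionToX (U : Scheme.{u}) (jdl A t) N ≫ (U).ι).appTop.hom
          ((Scheme.ΓSpecIso (CommRingCat.of A)).inv t)) ^ N)) =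
      imageSubobject (Formal.smulModΓ (𝔐.F N)
        ((FSch.completionToX (U : Scheme.{u}) (jdl A t) N ≫ (U).ι).appTop.hom
          ((Scheme.ΓSpecIso (CommRingCat.of A)).inv t))) := by
  let c := FSch.completionToX (U : Scheme.{u}) (jdl A t) N
  haveI : IsClosedImmersion c := inferInstanceAs (IsClosedImmersion (jdl A t ^ (N + 1)).subschemeι)
  let Z := (FSch.completionAlong (U : Scheme.{u}) (jdl A t)).X N
  let s : Γ(Z, ⊤) := (c ≫ (U).ι).appTop.hom ((Scheme.ΓSpecIso (CommRingCat.of A)).inv t)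
  -- the image of `t` on the level
  have hs : ∀ V : (U : Scheme.{u}).Opens,
      Z.presheaf.map (homOfLE (le_top : c ⁻¹ᵁ V ≤ ⊤)).op s = c.app V (H24Formal.scalA A (X := (U : Scheme.{u})) V t) :=
    fun V => (congr($(c.naturality (homOfLE (le_top : V ≤ ⊤)).op)
      (Coh.toGlobal (FEt.puncturedSpec A).ι t))).symm
  have hkey : ∀ (V : (U : Scheme.{u}).Opens), IsAffineOpen V → ∀ r : Γ(Z, c ⁻¹ᵁ V),
      r * Z.presheaf.map (homOfLE (le_top : c ⁻¹ᵁ V ≤ ⊤)).op s ^ N = 0 →
        Z.presheaf.map (homOfLE (le_top : c ⁻¹ᵁ V ≤ ⊤)).op s ∣ r := fun V hV r hr => by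
    rw [hs V] at hr ⊢
    refine dvd_of_mul_pow_eq_zero (c.app V).hom (c.app_surjective V hV) _
      (scalA_mem_nonZeroDivisors A t hreg hV) N ?_ r hr
    exact ((jdl A t ^ (N + 1)).ker_subschemeι_app ⟨V, hV⟩).trans (ideal_jdl A t (N + 1) ⟨V, hV⟩)
  choose V₀ hV₀ hxV₀ using fun x : Z =>
    show ∃ V : (U : Scheme.{u}).Opens, IsAffineOpen V ∧ c x ∈ V by
      obtain ⟨_, ⟨V, hV, rfl⟩, hxV, -⟩ := (U : Scheme.{u}).isBasis_affineOpens.exists_subset_of_mem_open
        (Set.mem_univ (c x)) isOpen_univ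
      exact ⟨V, hV, hxV⟩
  have hzero : s ^ N * s = 0 := by
    refine Z.sheaf.eq_of_locally_eq' (fun x : Z => c ⁻¹ᵁ V₀ x) ⊤ (fun x => homOfLE le_top)
      (fun x _ => Opens.mem_iSup.2 ⟨x, hxV₀ x⟩) _ _ fun x => ?_
    show Z.presheaf.map (homOfLE (le_top : c ⁻¹ᵁ V₀ x ≤ ⊤)).op (s ^ N * s) =
      Z.presheaf.map (homOfLE (le_top : c ⁻¹ᵁ V₀ x ≤ ⊤)).op 0
    rw [map_zero, map_mul, map_pow, hs (V₀ x), ← pow_succ, ← map_pow]
    exact RingHom.mem_ker.1 (((jdl A t ^ (N + 1)).ker_subschemeι_app ⟨V₀ x, hV₀ x⟩).ge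
      ((ideal_jdl A t (N + 1) ⟨V₀ x, hV₀ x⟩).ge (Ideal.mem_span_singleton_self _)))
  have hz : Formal.smulModΓ (𝔐.F N) s ≫ Formal.smulModΓ (𝔐.F N) (s ^ N) = 0 := by
    refine Scheme.Modules.hom_ext _ _ fun W => ConcreteCategory.hom_ext _ _ fun m => ?_
    show Z.presheaf.map (homOfLE (le_top : W ≤ ⊤)).op (s ^ N) • (Z.presheaf.map (homOfLE (le_top : W ≤ ⊤)).op s • m) = 0
    rw [smul_smul, ← map_mul, hzero, map_zero, zero_smul]
  refine ((ShortComplex.exact_iff_image_eq_kernel (ShortComplex.mk _ _ hz)).1 ?_).symm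
  refine H11Tilde.exact_of_locally _ fun W z hz0 x hx => ?_
  obtain ⟨Uc, r, hxU, ⟨e⟩⟩ := hM N x
  obtain ⟨O, hO, hOeq⟩ := c.isClosedEmbedding.isInducing.isOpen_iff.1 (W ⊓ Uc).2
  have hxO : c x ∈ (⟨O, hO⟩ : (U : Scheme.{u}).Opens) := hOeq.ge (⟨hx, hxU⟩ : x ∈ W ⊓ Uc)
  obtain ⟨_, ⟨V, hV, rfl⟩, hxV, hVO⟩ :=
    (U : Scheme.{u}).isBasis_affineOpens.exists_subset_of_mem_open hxO hO
  have hle : c ⁻¹ᵁ V ≤ W ⊓ Uc := fun y hy => hOeq.le (hVO hy)
  obtain ⟨b⟩ := H8Props.FinLocFree.exists_basis_of_chart (𝔐.F N) e (hle.trans inf_le_right)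
  let z' := (𝔐.F N).presheaf.map (homOfLE (hle.trans inf_le_left)).op z
  let s' := Z.presheaf.map (homOfLE (le_top : c ⁻¹ᵁ V ≤ ⊤)).op s
  have hz' : s' ^ N • z' = 0 := by
    have h1 := H11Tilde.app_map_apply (Formal.smulModΓ (𝔐.F N) (s ^ N)) (hle.trans inf_le_left) z
    rw [show (Formal.smulModΓ (𝔐.F N) (s ^ N)).app W z = 0 from hz0, map_zero] at h1
    rw [← map_pow]
    exact h1
  have hd : ∀ i, s' ∣ b.repr z' i := fun i => hkey V hV _ (by
    have := congrArg (fun m => b.repr m i) hz'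
    simp only [map_smul, map_zero, Finsupp.smul_apply, Finsupp.zero_apply, smul_eq_mul] at this
    rw [mul_comm]
    exact this)
  choose d hd using hd
  refine ⟨c ⁻¹ᵁ V, hle.trans inf_le_left, hxV, ∑ i, d i • b i, ?_⟩
  show s' • (∑ i, d i • b i) = z'
  conv_rhs => rw [← b.sum_repr z']
  rw [Finset.smul_sum]
  refine Finset.sum_congr rfl fun i _ => ?_
  rw [smul_smul, hd i]

set_option maxHeartbeats 1000000 in
/-- Depth two at the closed points of the bottom level. -/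
theorem depth_bottom (hreg : IsSMulRegular A t)
    (h3 : ∀ p : Ideal A, ∀ _ : p.IsPrime, t ∈ p → ringKrullDim (A ⧸ p) = 1 →
      (3 : ℕ∞) ≤ LocCoh.depth (Localization.AtPrime p) (Localization.AtPrime p))
    (𝔐 : FSch.ModSys (FSch.completionAlong (U : Scheme.{u}) (jdl A t))) (hM : LefX.LevelwiseFinLocFree 𝔐)
    (y : ↥((FSch.completionAlong (U : Scheme.{u}) (jdl A t)).X 0))
    (hy : SGA2.relCodim (maximalIdeal A) ((FSch.completionToX (U : Scheme.{u}) (jdl A t) 0 ≫ (U).ι).base y) = 1) :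
    (2 : ℕ∞) ≤ LocCoh.depth (((FSch.completionAlong (U : Scheme.{u}) (jdl A t)).X 0).presheaf.stalk y)
      ((𝔐.F 0).presheaf.stalk y) := by
  haveI : IsNoetherianRing ↑(CommRingCat.of A) := ‹IsNoetherianRing A›
  haveI : IsLocallyNoetherian (U : Scheme.{u}) := isLocallyNoetherian_of_isOpenImmersion (U).ι
  let I := jdl A t ^ (0 + 1)
  let Z := I.subscheme
  let x := I.subschemeι y
  let p : PrimeSpectrum A := (U).ι x
  haveI : IsLocallyNoetherian Z := LocallyOfFiniteType.isLocallyNoetherian I.subschemeι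
  obtain ⟨_, ⟨V, hV : IsAffineOpen V, rfl⟩, hxV, -⟩ :=
    (U : Scheme.{u}).isBasis_affineOpens.exists_subset_of_mem_open (Set.mem_univ x) isOpen_univ
  let t' := H24Formal.scalA A (X := (U : Scheme.{u})) V t
  let g := (U : Scheme.{u}).presheaf.germ V x hxV t'
  have hker : RingHom.ker (I.subschemeι.stalkMap y).hom = Ideal.span {g} := by
    rw [_root_.H29Blow.ker_stalkMap_subschemeι I y ⟨V, hV⟩ hxV, ideal_jdl, pow_one, Ideal.map_span, Set.image_singleton]
  letI := (U : Scheme.{u}).presheaf.algebra_section_stalk (⟨x, hxV⟩ : V)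
  haveI := hV.isLocalization_stalk ⟨x, hxV⟩
  haveI : Module.Flat Γ((U : Scheme.{u}), V) ((U : Scheme.{u}).presheaf.stalk x) :=
    IsLocalization.flat _ (hV.primeIdealOf ⟨x, hxV⟩).asIdeal.primeCompl
  have hg : g ∈ nonZeroDivisors ((U : Scheme.{u}).presheaf.stalk x) :=
    _root_.H29Blow.mem_nonZeroDivisors_map_of_flat (RingHom.flat_algebraMap_iff.mpr inferInstance) (scalA_mem_nonZeroDivisors A t hreg hV)
  have hgu : ¬ IsUnit g := fun hu => by
    have h0 : g ∈ RingHom.ker (I.subschemeι.stalkMap y).hom := hker ▸ Ideal.mem_span_singleton_self g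
    have h1 := hu.map (I.subschemeι.stalkMap y).hom
    rw [RingHom.mem_ker.1 h0] at h1
    exact not_isUnit_zero h1
  have hgm : g ∈ maximalIdeal ((U : Scheme.{u}).presheaf.stalk x) := hgu
  obtain ⟨hdep, -⟩ := _root_.H29Blow.depth_dim_of_surjective _ (I.subschemeι.stalkMap_surjective y) hg hgm hker
  -- the prime
  have htp : t ∈ p.asIdeal := by
    by_contra h
    refine hgu ?_
    have hu : x ∈ (U : Scheme.{u}).basicOpen t' := by
      show x ∈ (U : Scheme.{u}).basicOpen ((U : Scheme.{u}).presheaf.map (homOfLE le_top).op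
        ((U).ι.appTop ((Scheme.ΓSpecIso (CommRingCat.of A)).inv t)))
      rw [Scheme.basicOpen_res]
      refine ⟨hxV, ?_⟩
      show x ∈ (U : Scheme.{u}).basicOpen ((U).ι.appTop ((Scheme.ΓSpecIso (CommRingCat.of A)).inv t))
      rw [← Scheme.preimage_basicOpen_top, basicOpen_eq_of_affine']
      show p ∈ PrimeSpectrum.basicOpen ((Scheme.ΓSpecIso (CommRingCat.of A)).hom ((Scheme.ΓSpecIso (CommRingCat.of A)).inv t))
      rw [show (Scheme.ΓSpecIso (CommRingCat.of A)).hom ((Scheme.ΓSpecIso (CommRingCat.of A)).inv t) = t from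
        (Scheme.ΓSpecIso (CommRingCat.of A)).inv_hom_id_apply t]
      exact h
    exact ((U : Scheme.{u}).mem_basicOpen t' x hxV).1 hu
  have hp1 : ringKrullDim (A ⧸ p.asIdeal) = 1 := by
    refine H11LefFEt.LefPunct.dim_eq_one_of_covBy ⟨lt_of_le_of_ne (le_maximalIdeal p.2.ne_top) x.2,
      fun z hpz hzm => ?_⟩
    exact hpz.ne (H24Punct.eq_of_relCodim_eq_one A p z hpz.le hzm.ne hy)
  have hdU : (3 : ℕ∞) ≤ LocCoh.depth ((U : Scheme.{u}).presheaf.stalk x) ((U : Scheme.{u}).presheaf.stalk x) := by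
    obtain ⟨e⟩ := H4DualSch.exists_stalk_ringEquiv (X := Spec (CommRingCat.of A)) (𝟙 _) p
    rw [← H05EGA4.depth_eq_of_ringEquiv (e.trans (asIso ((U).ι.stalkMap x)).commRingCatIsoToRingEquiv)]
    exact h3 p.asIdeal p.2 htp hp1
  have hd0 : (2 : ℕ∞) ≤ LocCoh.depth (Z.presheaf.stalk y) (Z.presheaf.stalk y) := by
    rw [← hdep] at hdU
    exact WithTop.le_of_add_le_add_right WithTop.one_ne_top (show (2 : ℕ∞) + 1 ≤ _ from hdU)
  -- the level is free
  haveI : Module.Free (Z.presheaf.stalk y) ((𝔐.F 0).presheaf.stalk y) := H8Props.FinLocFree.free_stalk (𝔐.F 0) (hM 0) y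
  haveI : Module.Finite (Z.presheaf.stalk y) ((𝔐.F 0).presheaf.stalk y) :=
    H29Ref.finite_stalk (𝔐.F 0) (H16Derived.KFlat.Stalk.isCoh_of_isFinLocFree (hM 0)).2 y
  refine le_trans hd0 (le_trans (H4Depth.idealDepth_le_idealDepth_pi _
    (Module.finrank (Z.presheaf.stalk y) ((𝔐.F 0).presheaf.stalk y))) (le_of_eq ?_))
  exact (H4Depth.depth_congr (Module.finBasis (Z.presheaf.stalk y) ((𝔐.F 0).presheaf.stalk y)).equivFun).symm

/-- The effective Lefschetz condition. -/
theorem leffCond (R : Type u) [CommRing R] [IsRegularLocalRing R] (π : R →+* A) (hπ : Function.Surjective π)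
    (ht : t ∈ maximalIdeal A) (hreg : IsSMulRegular A t) [IsAdicComplete (Ideal.span {t}) A]
    (h2 : ∀ p : Ideal A, ∀ _ : p.IsPrime, ringKrullDim (A ⧸ p) = 1 →
      (2 : ℕ∞) ≤ LocCoh.depth (Localization.AtPrime p) (Localization.AtPrime p))
    (h3 : ∀ p : Ideal A, ∀ _ : p.IsPrime, t ∈ p → ringKrullDim (A ⧸ p) = 1 →
      (3 : ℕ∞) ≤ LocCoh.depth (Localization.AtPrime p) (Localization.AtPrime p)) :
    LefX.LeffCond (U : Scheme.{u}) (jdl A t) := by
  refine ⟨H11LefFEt.LefPunct.lefCond R π hπ t ht fun p => h2 p.asIdeal p.2, fun 𝔐 hM => ?_⟩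
  haveI : IsRegularRing R := H05EGA4.isRegularRing_of_isRegularLocalRing R
  haveI : IsNoetherianRing ↑(CommRingCat.of A) := ‹IsNoetherianRing A›
  haveI : IsLocallyNoetherian (U : Scheme.{u}) := isLocallyNoetherian_of_isOpenImmersion (U).ι
  haveI : ∀ n, IsLocallyNoetherian ((FSch.completionAlong (U : Scheme.{u}) (jdl A t)).X n) := fun n =>
    LocallyOfFiniteType.isLocallyNoetherian (jdl A t ^ (n + 1)).subschemeι
  obtain ⟨F, hF, ⟨e⟩⟩ := H24Depth2.exists_algebraization_of_eq A t (maximalIdeal A) R π hπ _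
    (H24Punct.puncturedSpec_eq A) 𝔐 (fun n => H16Derived.KFlat.Stalk.isCoh_of_isFinLocFree (hM n))
    (fun N _ => kernel_eq_image A t hreg 𝔐 hM N) (depth_bottom A t hreg h3 𝔐 hM)
  exact exists_locFree (jdl A t) F hF 𝔐 hM e

end

end Groth.Agent.H11Leff
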